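import Groth.Agent.Comod33.Connected
import Groth.Agent.Comod33.HopfSurjFG
import Groth.Agent.Comod33.QuotReductive
import Groth.Agent.LinRed34.Points
import Groth.Prelude.Def_CoactBr

/-!
An affine group acting on itself by conjugation.
-/

set_option autoImplicit false

universe u v w

open TensorProduct WithConv Groth.Agent.Comod33 Groth.Agent.Comod33.Conn

noncomputable section

namespace Groth.Agent.Char34

/-- composition with an algebra map is a homomorphism of groups of points -/
def post {k : Type u} [CommRing k] {A : Type v} [CommRing A] [Bialgebra k A] {B : Type w} [CommRing B]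
    [Algebra k B] {C : Type w} [CommRing C] [Algebra k C] (φ : B →ₐ[k] C) :
    WithConv (A →ₐ[k] B) →* WithConv (A →ₐ[k] C) :=
  { toFun := fun f : WithConv (A →ₐ[k] B) => toConv (φ.comp f.ofConv)
    map_one' := ofConv_injective (AlgHom.ext fun x => φ.commutes _)
    map_mul' := fun f g => ofConv_injective (AlgHom.comp_convMul_distrib φ f g) }

theorem post_apply {k : Type u} [CommRing k] {A : Type v} [CommRing A] [Bialgebra k A] {B : Type w} [CommRing B]
    [Algebra k B] {C : Type w} [CommRing C] [Algebra k C] (φ : B →ₐ[k] C) (f : WithConv (A →ₐ[k] B)) :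
    post φ f = toConv (φ.comp f.ofConv) := rfl

variable (k : Type u) [Field k] (A : Type u) [CommRing A] [HopfAlgebra k A]

/-- the coordinate ring, acted on by conjugation -/
def Ad : Type u := A

instance : CommRing (Ad A) := inferInstanceAs (CommRing A)

instance : Algebra k (Ad A) := inferInstanceAs (Algebra k A)

/-- the left and the right factor -/
def inl₂ : WithConv (A →ₐ[k] A ⊗[k] A) := toConv Algebra.TensorProduct.includeLeft

@[inherit_doc inl₂]
def inr₂ : WithConv (A →ₐ[k] A ⊗[k] A) := toConv Algebra.TensorProduct.includeRight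

theorem inl₂_mul_inr₂ : inl₂ k A * inr₂ k A = toConv (Bialgebra.comulAlgHom k A) := by
  refine ofConv_injective (AlgHom.ext fun a => ?_)
  rw [AlgHom.convMul_apply]
  show _ = CoalgebraStruct.comul (R := k) a
  generalize CoalgebraStruct.comul (R := k) a = z
  induction z with
  | zero => simp
  | tmul p q => simp [inl₂, inr₂]
  | add p q hp hq => simp only [map_add, hp, hq]

/-- the coaction of conjugation -/
def adCoact : A →ₐ[k] A ⊗[k] A := ((inr₂ k A)⁻¹ * inl₂ k A * inr₂ k A).ofConv

theorem toConv_adCoact : toConv (adCoact k A) = (inr₂ k A)⁻¹ * inl₂ k A * inr₂ k A := rfl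

theorem adCoact_coassoc :
    ((Algebra.TensorProduct.assoc k k k A A A).toAlgHom.comp
      (Algebra.TensorProduct.map (adCoact k A) (AlgHom.id k A))).comp (adCoact k A) =
    (Algebra.TensorProduct.map (AlgHom.id k A) (Bialgebra.comulAlgHom k A)).comp (adCoact k A) := by
  let i₁ : A ⊗[k] A →ₐ[k] A ⊗[k] (A ⊗[k] A) :=
    (Algebra.TensorProduct.assoc k k k A A A).toAlgHom.comp
      (Algebra.TensorProduct.includeLeft : A ⊗[k] A →ₐ[k] (A ⊗[k] A) ⊗[k] A)
  let i₂ : A ⊗[k] A →ₐ[k] A ⊗[k] (A ⊗[k] A) := Algebra.TensorProduct.includeRight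
  let a : WithConv (A →ₐ[k] A ⊗[k] (A ⊗[k] A)) := post i₁ (inl₂ k A)
  let b : WithConv (A →ₐ[k] A ⊗[k] (A ⊗[k] A)) := post i₁ (inr₂ k A)
  let b' : WithConv (A →ₐ[k] A ⊗[k] (A ⊗[k] A)) := post i₁ (inr₂ k A)⁻¹
  let c : WithConv (A →ₐ[k] A ⊗[k] (A ⊗[k] A)) := post i₂ (inr₂ k A)
  let c' : WithConv (A →ₐ[k] A ⊗[k] (A ⊗[k] A)) := post i₂ (inr₂ k A)⁻¹
  let Φ := (Algebra.TensorProduct.assoc k k k A A A).toAlgHom.comp
      (Algebra.TensorProduct.map (adCoact k A) (AlgHom.id k A))
  let Ψ := Algebra.TensorProduct.map (AlgHom.id k A) (Bialgebra.comulAlgHom k A)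
  have hΦl : post Φ (inl₂ k A) = b' * a * b := by
    have h : post Φ (inl₂ k A) = post i₁ (toConv (adCoact k A)) :=
      ofConv_injective (AlgHom.ext fun x => by simp [post_apply, Φ, i₁, inl₂])
    rw [h, toConv_adCoact, map_mul, map_mul]
  have hΦr : post Φ (inr₂ k A) = c := ofConv_injective (AlgHom.ext fun x => by
    simp [post_apply, Φ, c, i₂, inr₂, Algebra.TensorProduct.one_def])
  have hinv : ∀ (f : WithConv (A →ₐ[k] A ⊗[k] A)) (x : A),
      f⁻¹.ofConv x = f.ofConv (HopfAlgebraStruct.antipode (R := k) x) := fun f x => rfl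
  have hΦr' : post Φ (inr₂ k A)⁻¹ = c' := ofConv_injective (AlgHom.ext fun x => by
    simp [post_apply, Φ, c', i₂, hinv, inr₂, Algebra.TensorProduct.one_def])
  have hΨl : post Ψ (inl₂ k A) = a := ofConv_injective (AlgHom.ext fun x => by
    simp [post_apply, Ψ, a, i₁, inl₂, Algebra.TensorProduct.one_def])
  have hb : post i₂ (inl₂ k A) = b := ofConv_injective (AlgHom.ext fun x => by
    simp [post_apply, b, i₁, i₂, inl₂, inr₂])
  have hb' : post i₂ (inl₂ k A)⁻¹ = b' := ofConv_injective (AlgHom.ext fun x => by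
    simp [post_apply, b', i₁, i₂, hinv, inl₂, inr₂])
  have hΨr : post Ψ (inr₂ k A) = b * c := by
    have h : post Ψ (inr₂ k A) = post i₂ (inl₂ k A * inr₂ k A) := by
      rw [inl₂_mul_inr₂]
      exact ofConv_injective (AlgHom.ext fun x => by simp [post_apply, Ψ, i₂, inr₂])
    rw [h, map_mul, hb]
  have hΨr' : post Ψ (inr₂ k A)⁻¹ = c' * b' := by
    have h : post Ψ (inr₂ k A)⁻¹ = post i₂ (inl₂ k A * inr₂ k A)⁻¹ := by
      rw [inl₂_mul_inr₂]
      exact ofConv_injective (AlgHom.ext fun x => by simp [post_apply, Ψ, i₂, hinv, inr₂])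
    have e : (inl₂ k A * inr₂ k A)⁻¹ = (inr₂ k A)⁻¹ * (inl₂ k A)⁻¹ := mul_inv_rev (inl₂ k A) (inr₂ k A)
    rw [h, e, map_mul, hb']
  apply toConv_injective
  show post Φ (toConv (adCoact k A)) = post Ψ (toConv (adCoact k A))
  rw [toConv_adCoact, map_mul, map_mul, map_mul, map_mul, hΦl, hΦr, hΦr', hΨl, hΨr, hΨr']
  have key : ∀ {M : Type u} [Monoid M] (p q r s t : M), p * (q * r * s) * t = p * q * r * (s * t) := by
    intro M _ p q r s t; simp only [mul_assoc]
  exact key c' b' a b c

theorem adCoact_counit :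
    (Algebra.TensorProduct.map (AlgHom.id k A) (Bialgebra.counitAlgHom k A)).comp (adCoact k A) =
      Algebra.TensorProduct.includeLeft := by
  let Ψ := Algebra.TensorProduct.map (AlgHom.id k A) (Bialgebra.counitAlgHom k A)
  have hε : ∀ x : A, (1 : A) ⊗ₜ[k] CoalgebraStruct.counit (R := k) x = algebraMap k (A ⊗[k] k) (CoalgebraStruct.counit (R := k) x) :=
    fun x => by rw [Algebra.algebraMap_eq_smul_one, Algebra.TensorProduct.one_def, ← tmul_smul, smul_eq_mul, mul_one]
  have hr' : post Ψ (inr₂ k A)⁻¹ = 1 := ofConv_injective (AlgHom.ext fun x => by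
    show (1 : A) ⊗ₜ[k] CoalgebraStruct.counit (R := k) (HopfAlgebraStruct.antipode (R := k) x) = _
    rw [HopfAlgebra.counit_antipode]; exact hε x)
  have hr : post Ψ (inr₂ k A) = 1 := ofConv_injective (AlgHom.ext fun x => by
    exact hε x)
  apply toConv_injective
  show post Ψ (toConv (adCoact k A)) = _
  rw [toConv_adCoact, map_mul, map_mul, hr', hr, one_mul, mul_one]
  exact ofConv_injective (AlgHom.ext fun x => by simp [post_apply, Ψ, inl₂])

instance adComod : HopfRep.Comod k A (Ad A) where
  coact := (adCoact k A).toLinearMap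
  coassoc := LinearMap.ext fun (x : A) => by
    refine Eq.trans ?_ (DFunLike.congr_fun (adCoact_coassoc k A) x)
    show TensorProduct.assoc k A A A ((adCoact k A).toLinearMap.rTensor A (adCoact k A x)) =
      (Algebra.TensorProduct.assoc k k k A A A) (Algebra.TensorProduct.map (adCoact k A) (AlgHom.id k A) (adCoact k A x))
    generalize adCoact k A x = z
    induction z with
    | zero => simp
    | tmul p q => rfl
    | add p q hp hq => simp only [map_add, hp, hq]
  counit_comp := LinearMap.ext fun (x : A) => by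
    refine Eq.trans ?_ (DFunLike.congr_fun (adCoact_counit k A) x)
    show (CoalgebraStruct.counit (R := k) (A := A)).lTensor A (adCoact k A x) =
      Algebra.TensorProduct.map (AlgHom.id k A) (Bialgebra.counitAlgHom k A) (adCoact k A x)
    generalize adCoact k A x = z
    induction z with
    | zero => simp
    | tmul p q => rfl
    | add p q hp hq => simp only [map_add, hp, hq]

instance : GLin.IsCoactAlg k A (Ad A) where
  coact_one := map_one (adCoact k A)
  coact_mul := map_mul (adCoact k A)

instance [Algebra.FiniteType k A] : Algebra.FiniteType k (Ad A) := ‹Algebra.FiniteType k A›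

variable {k A}

/-- a rational point of the group as a point of the conjugation space -/
def adPt (g : Pt k A) : Ad A →ₐ[k] k := g.ofConv

theorem adPt_injective : Function.Injective (adPt (k := k) (A := A)) := ofConv_injective

theorem exists_adPt (z : Ad A →ₐ[k] k) : ∃ g : Pt k A, adPt g = z := ⟨toConv z, rfl⟩

/-- the orbit map of a point -/
def orb (g : Pt k A) : A →ₐ[k] A :=
  let φ : Ad A →ₐ[k] A := GLin.orbitHom k A (adPt g)
  φ

theorem orbitHom_adPt (g : Pt k A) :
    toConv (orb g) = (Conn.gen k A)⁻¹ * const g * Conn.gen k A := by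
  let Φ : A ⊗[k] A →ₐ[k] A := (Algebra.TensorProduct.lid k A).toAlgHom.comp
    (Algebra.TensorProduct.map g.ofConv (AlgHom.id k A))
  show post Φ (toConv (adCoact k A)) = _
  have hl : post Φ (inl₂ k A) = const g := ofConv_injective (AlgHom.ext fun x => by
    simp [post_apply, Φ, inl₂, const, Algebra.algebraMap_eq_smul_one])
  have hr : post Φ (inr₂ k A) = Conn.gen k A := ofConv_injective (AlgHom.ext fun x => by
    simp [post_apply, Φ, inr₂, Conn.gen])
  have hr' : post Φ (inr₂ k A)⁻¹ = (Conn.gen k A)⁻¹ := by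
    rw [← hr]; exact ofConv_injective (AlgHom.ext fun x => rfl)
  rw [toConv_adCoact, map_mul, map_mul, hr', hl, hr]

/-- the group moves a point to its conjugate -/
theorem actPt_adPt (x g : Pt k A) : GLin.actPt k x.ofConv (adPt g) = adPt (x⁻¹ * g * x) := by
  refine toConv_injective (show Conn.push x (toConv (orb g)) = x⁻¹ * g * x from ?_)
  rw [orbitHom_adPt, map_mul, map_mul, map_inv, Conn.push_gen, Conn.push_const]

/-- invariant functions are the class functions -/
theorem invariants_adPt {f : Ad A} (hf : f ∈ GLin.invariants k A (Ad A)) (x g : Pt k A) :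
    (x * g * x⁻¹).ofConv f = g.ofConv f := by
  have h := congrArg (fun φ : Ad A →ₐ[k] k => φ f) (actPt_adPt x⁻¹ g)
  simp only [inv_inv] at h
  refine h.symm.trans ?_
  show x⁻¹.ofConv (GLin.orbitHom k A (adPt g) f) = g.ofConv f
  rw [LinRed34.orbitHom_invariant (adPt g) hf, AlgHom.commutes]
  rfl

open CategoryTheory CartesianMonoidalCategory MonObj AlgebraicGeometry in
/-- the image of conjugation at a point is the orbit -/
theorem range_conj (g : A →ₐ[k] k) :
    Set.range ((𝟙 (CoactBr.sp k A) * CoactBr.pt ((Algebra.ofId k A).comp g) *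
        (𝟙 (CoactBr.sp k A))⁻¹).left.base) =
      Set.range (PrimeSpectrum.comap (GLin.orbitHom k A (adPt (toConv g))).toRingHom) := by
  have hmul : ∀ p q : WithConv (A →ₐ[k] A), CoactBr.pt (p * q).ofConv = CoactBr.pt p.ofConv * CoactBr.pt q.ofConv :=
    fun p q => map_mul Spec.mapMulEquiv p q
  have hinv : ∀ p : WithConv (A →ₐ[k] A), CoactBr.pt p⁻¹.ofConv = (CoactBr.pt p.ofConv)⁻¹ :=
    fun p => (CoactBr.pt_inv p.ofConv).symm
  let S := HopfAlgebra.antipodeAlgHom k A
  have e : (𝟙 (CoactBr.sp k A) * CoactBr.pt ((Algebra.ofId k A).comp g) * (𝟙 (CoactBr.sp k A))⁻¹) =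
      CoactBr.pt (S.comp (orb (toConv g))) := by
    have h1 : toConv (S.comp (orb (toConv g))) =
        Conn.gen k A * const (toConv g) * (Conn.gen k A)⁻¹ := by
      show post S (toConv (orb (toConv g))) = _
      have hg : post S (Conn.gen k A) = (Conn.gen k A)⁻¹ := rfl
      have hc : post S (const (toConv g)) = const (toConv g) := ofConv_injective (AlgHom.ext fun x => by
        simp [post_apply, const])
      rw [orbitHom_adPt, map_mul, map_mul, map_inv, hg, hc, inv_inv]
    have h2 := congrArg (fun p : WithConv (A →ₐ[k] A) => CoactBr.pt p.ofConv) h1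
    simp only [ofConv_toConv, hmul, hinv] at h2
    rw [h2]
    simp only [Conn.gen, const, ofConv_toConv, CoactBr.pt_id]
  rw [e, CoactBr.pt_left]
  show Set.range (PrimeSpectrum.comap (S.comp (orb (toConv g))).toRingHom) = _
  rw [show (S.comp (orb (toConv g))).toRingHom =
    S.toRingHom.comp (orb (toConv g)).toRingHom from rfl,
    PrimeSpectrum.comap_comp]
  refine Function.Surjective.range_comp (fun p => ⟨PrimeSpectrum.comap S.toRingHom p, ?_⟩) _
  rw [← PrimeSpectrum.comap_comp_apply,
    show S.toRingHom.comp S.toRingHom = RingHom.id A from RingHom.ext fun a => Comod33.Quot.antipode_antipode (k := k) a]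
  rfl

end Groth.Agent.Char34
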