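import Groth.Agent.Comod33.MatrixRep
import Groth.Agent.Comod33.Connected
import Groth.Agent.Comod33.CartierReduced
import Mathlib.LinearAlgebra.Eigenspace.Triangularizable
import Mathlib.Algebra.DirectSum.LinearMap
import Mathlib.LinearAlgebra.Trace

/-!
Characters of representations of an affine algebraic group in characteristic zero, read on points.
-/

set_option autoImplicit false

universe u w

open TensorProduct Groth.Agent.Comod33 Groth.Agent.Comod33.Conn

noncomputable section

namespace Groth.Agent.Char34

variable (k : Type u) [Field k] (A : Type u) [CommRing A] [HopfAlgebra k A]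

/-- characters of comodule structures on coordinate spaces -/
abbrev chars : Set A :=
  Set.range fun p : (Σ d : ℕ, HopfRep.Comod k A (Fin d → k)) =>
    ∑ i : Fin p.1, TensorProduct.lid k A (LinearMap.rTensor A (LinearMap.proj i)
      (@HopfRep.Comod.coact k A _ _ _ _ (Fin p.1 → k) _ _ p.2 (Pi.single i 1)))

variable {k A}

theorem lid_rTensor_eq_lc {V : Type w} [AddCommGroup V] [Module k V] (φ : V →ₗ[k] k) (x : V ⊗[k] A) :
    TensorProduct.lid k A (φ.rTensor A x) = lc φ x := by
  induction x with
  | zero => simp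
  | add x y hx hy => simp [map_add, hx, hy]
  | tmul v a => simp [lc_tmul]

theorem chr_eq (d : ℕ) (c : HopfRep.Comod k A (Fin d → k)) (g : Pt k A) :
    g.ofConv (∑ i : Fin d, TensorProduct.lid k A (LinearMap.rTensor A (LinearMap.proj i)
        (c.coact (Pi.single i 1)))) =
      LinearMap.trace k (Fin d → k) (@actHom k _ A _ _ (Fin d → k) _ _ c g) := by
  classical
  letI := c
  rw [map_sum, LinearMap.trace_eq_matrix_trace k (Pi.basisFun k (Fin d)), Matrix.trace]
  refine Finset.sum_congr rfl fun i _ => ?_
  rw [lid_rTensor_eq_lc, Matrix.diag_apply, LinearMap.toMatrix_apply, Pi.basisFun_apply, Pi.basisFun_repr,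
    ← cf_apply]
  exact apply_cf g _ _

/-- the trace of a point on a finite comodule is the value of a character -/
theorem exists_chr (V : Type w) [AddCommGroup V] [Module k V] [HopfRep.Comod k A V] [FiniteDimensional k V] :
    ∃ a ∈ chars k A, ∀ g : Pt k A, g.ofConv a = LinearMap.trace k V (actHom k A V g) := by
  classical
  let b := Module.finBasis k V
  refine ⟨_, ⟨⟨Module.finrank k V, Mat.comod (Mat.isRep_mc (A := A) b)⟩, rfl⟩, fun g => ?_⟩
  rw [map_sum, LinearMap.trace_eq_matrix_trace k b, Matrix.trace]
  refine Finset.sum_congr rfl fun i _ => ?_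
  show g.ofConv (TensorProduct.lid k A (LinearMap.rTensor A (LinearMap.proj i)
    (Mat.repCoact (k := k) (Mat.mc (A := A) b) (Pi.single i 1)))) = _
  rw [Mat.repCoact_single, map_sum, map_sum, Matrix.diag_apply, LinearMap.toMatrix_apply]
  simp only [LinearMap.rTensor_tmul, LinearMap.proj_apply, TensorProduct.lid_tmul, Pi.single_apply,
    ite_smul, one_smul, zero_smul]
  rw [Finset.sum_ite_eq Finset.univ i, if_pos (Finset.mem_univ i), Mat.mc, apply_cf]
  rfl

variable [IsAlgClosed k] [CharZero k] [Algebra.FiniteType k A]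

theorem eq_of_forall_pt {a b : A} (h : ∀ g : Pt k A, g.ofConv a = g.ofConv b) : a = b := by
  haveI : IsReduced A := Aug.isReduced_of_charZero (k := k)
  exact sub_eq_zero.1 (Conn.eq_zero_of_forall_point (k := k) fun g => by rw [map_sub, h g, sub_self])

/-- the trace of a point composed with an equivariant endomorphism is a combination of characters -/
theorem exists_trace_comp (V : Type w) [AddCommGroup V] [Module k V] [HopfRep.Comod k A V]
    [FiniteDimensional k V] (T : Module.End k V) (hT : ∀ g : Pt k A, Commute T (actHom k A V g)) :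
    ∃ a ∈ Submodule.span k (chars k A), ∀ g : Pt k A,
      g.ofConv a = LinearMap.trace k V (actHom k A V g ∘ₗ T) := by
  classical
  haveI : IsReduced A := Aug.isReduced_of_charZero (k := k)
  have hfin : {μ | T.maxGenEigenspace μ ≠ ⊥}.Finite :=
    WellFoundedGT.finite_ne_bot_of_iSupIndep T.independent_maxGenEigenspace
  have hsub : ∀ μ, HopfRep.IsSubcomod (k := k) (A := A) (T.maxGenEigenspace μ) := fun μ =>
    isSubcomod_of_forall_point _ fun g _ hu => T.mapsTo_maxGenEigenspace_of_comm (hT g) μ hu
  have hchr : ∀ μ, ∃ a ∈ chars k A, ∀ g : Pt k A, g.ofConv a =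
      LinearMap.trace k (T.maxGenEigenspace μ)
        ((actHom k A V g).restrict (T.mapsTo_maxGenEigenspace_of_comm (hT g) μ)) := fun μ => by
    letI := ComodSub.Comod.restr (inferInstance : HopfRep.Comod k A V) (T.maxGenEigenspace μ) (hsub μ)
    obtain ⟨a, ha, he⟩ := exists_chr (k := k) (A := A) (T.maxGenEigenspace μ)
    refine ⟨a, ha, fun g => (he g).trans (congrArg _ (LinearMap.ext fun v => Subtype.ext ?_))⟩
    exact IsComodHom.dact (ComodSub.isComodHom_subtype _ _ (hsub μ)) g.ofConv.toLinearMap v
  choose a ha he using hchr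
  refine ⟨∑ μ ∈ hfin.toFinset, μ • a μ,
    sum_mem fun μ _ => Submodule.smul_mem _ _ (Submodule.subset_span (ha μ)), fun g => ?_⟩
  have hds := DirectSum.isInternal_submodule_of_iSupIndep_of_iSup_eq_top
    T.independent_maxGenEigenspace (Module.End.iSup_maxGenEigenspace_eq_top T)
  have hfg : ∀ μ, Set.MapsTo (actHom k A V g ∘ₗ T) ↑(T.maxGenEigenspace μ) ↑(T.maxGenEigenspace μ) :=
    fun μ => (T.mapsTo_maxGenEigenspace_of_comm (hT g) μ).comp (T.mapsTo_maxGenEigenspace_of_comm rfl μ)
  rw [map_sum, LinearMap.trace_eq_sum_trace_restrict' hds hfin hfg]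
  refine Finset.sum_congr rfl fun μ _ => ?_
  rw [map_smul, smul_eq_mul, he μ g]
  exact (LinearMap.trace_comp_eq_mul_of_commute_of_isNilpotent μ (LinearMap.restrict_commute (hT g).symm (T.mapsTo_maxGenEigenspace_of_comm (hT g) μ)
      (T.mapsTo_maxGenEigenspace_of_comm rfl μ))
    (T.isNilpotent_restrict_maxGenEigenspace_sub_algebraMap μ)).symm

end Groth.Agent.Char34
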