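import Groth.Agent.Char34.Sch
import Groth.Agent.Comod33.HomComod
import Groth.Agent.Comod33.Structure
import Groth.Agent.Comod33.Reductive
import Mathlib.LinearAlgebra.DFinsupp

/-!
Class functions of a linearly reductive group are the combinations of characters.
-/

set_option autoImplicit false

universe u w

open CategoryTheory AlgebraicGeometry TensorProduct Groth.Agent.Comod33 Groth.Agent.Comod33.Conn

noncomputable section

namespace Groth.Agent.Char34

variable {k : Type u} [Field k] {A : Type u} [CommRing A] [HopfAlgebra k A]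

theorem chr_eq_trace (d : ℕ) (c : HopfRep.Comod k A (Fin d → k)) :
    (∑ i : Fin d, TensorProduct.lid k A (LinearMap.rTensor A (LinearMap.proj i) (c.coact (Pi.single i 1)))) =
      ∑ i : Fin d, @Mat.mc k _ A _ _ (Fin d → k) _ _ c _ (Pi.basisFun k (Fin d)) i i := by
  letI := c
  refine Finset.sum_congr rfl fun i _ => ?_
  rw [lid_rTensor_eq_lc, Mat.mc, cf_apply, Pi.basisFun_apply]
  congr 1

/-- characters are class functions on points with values in any algebra -/
theorem conj_chars {K : Type u} [CommRing K] [Algebra k K] {f : A} (hf : f ∈ Submodule.span k (chars k A))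
    (p q p' : WithConv (A →ₐ[k] K)) (hp : p' * p = 1) : (p * q * p').ofConv f = q.ofConv f := by
  induction hf using Submodule.span_induction with
  | mem f hf =>
    obtain ⟨⟨d, c⟩, rfl⟩ := hf
    letI := c
    dsimp only
    rw [chr_eq_trace]
    have hc := Mat.isRep_mc (A := A) (Pi.basisFun k (Fin d))
    have e : ∀ g : WithConv (A →ₐ[k] K), g.ofConv (∑ i, Mat.mc (A := A) (Pi.basisFun k (Fin d)) i i) =
        (Mat.ev g.ofConv (Mat.mc (A := A) (Pi.basisFun k (Fin d)))).trace := fun g => by
      rw [map_sum]; rfl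
    have hinv : Mat.ev p'.ofConv (Mat.mc (A := A) (Pi.basisFun k (Fin d))) *
        Mat.ev p.ofConv (Mat.mc (A := A) (Pi.basisFun k (Fin d))) = 1 := by
      rw [← Mat.ev_mul hc]
      show Mat.ev (p' * p).ofConv _ = 1
      rw [hp]
      exact Mat.ev_one hc
    rw [e, e, show Mat.ev (p * q * p').ofConv (Mat.mc (A := A) (Pi.basisFun k (Fin d))) =
      Mat.ev p.ofConv (Mat.mc (A := A) (Pi.basisFun k (Fin d))) *
        Mat.ev q.ofConv (Mat.mc (A := A) (Pi.basisFun k (Fin d))) *
        Mat.ev p'.ofConv (Mat.mc (A := A) (Pi.basisFun k (Fin d))) from by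
      rw [← Mat.ev_mul hc, ← Mat.ev_mul hc], Matrix.trace_mul_comm, ← mul_assoc, hinv, one_mul]
  | zero => simp
  | add x y _ _ hx hy => rw [map_add, map_add, hx, hy]
  | smul r x _ hx => rw [map_smul, map_smul, hx]

variable [IsAlgClosed k] [CharZero k] [Algebra.FiniteType k A]

/-- the action on linear maps is conjugation -/
theorem act_homComod {V : Type u} [AddCommGroup V] [Module k V] [HopfRep.Comod k A V] [Module.Finite k V]
    (g : Pt k A) (φ : Module.End k V) :
    @HopfRep.Comod.act k A _ _ _ (V →ₗ[k] V) _ _ (homComod (A := A) (V := V) (W := V)) g.ofConv φ =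
      actHom k A V g * φ * actHom k A V g⁻¹ := by
  refine LinearMap.ext fun v => ?_
  have h1 : ∀ z : (V →ₗ[k] V) ⊗[k] A, rc g.ofConv.toLinearMap z v = rc g.ofConv.toLinearMap (homT z v) := by
    intro z
    induction z with
    | zero => simp
    | add p q hp hq => simp only [map_add, LinearMap.add_apply, hp, hq]
    | tmul ψ a => simp
  refine (h1 _).trans ?_
  rw [homComod_spec]
  show rc g.ofConv.toLinearMap (mulR V (TensorProduct.map (HopfRep.Comod.coact (k := k) (A := A) ∘ₗ φ)
    (HopfAlgebraStruct.antipode (R := k) (A := A)) (HopfRep.Comod.coact (k := k) (A := A) v))) =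
    rc g.ofConv.toLinearMap (HopfRep.Comod.coact (k := k) (A := A) (φ (rc (g⁻¹).ofConv.toLinearMap
      (HopfRep.Comod.coact (k := k) (A := A) v))))
  generalize HopfRep.Comod.coact (k := k) (A := A) v = t
  induction t with
  | zero => simp
  | add p q hp hq => simp only [map_add, hp, hq]
  | tmul n b =>
    rw [rc_tmul, map_smul, map_smul, map_smul, TensorProduct.map_tmul, LinearMap.comp_apply]
    show _ = g.ofConv (HopfAlgebraStruct.antipode (R := k) b) • _
    generalize HopfRep.Comod.coact (k := k) (A := A) (φ n) = s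
    induction s with
    | zero => simp
    | add p q hp hq => simp only [map_add, add_tmul, smul_add, hp, hq]
    | tmul m a => simp [smul_smul, mul_comm]

/-- a class function written as a trace is the trace against an equivariant endomorphism -/
theorem exists_commute_trace (hred : HopfRep.IsLinearlyReductive k A) {f : A}
    (hf : ∀ x g : Pt k A, (x * g * x⁻¹).ofConv f = g.ofConv f)
    {V : Type u} [AddCommGroup V] [Module k V] [HopfRep.Comod k A V] [Module.Finite k V] (T₀ : Module.End k V)
    (htr0 : ∀ g : Pt k A, LinearMap.trace k V (actHom k A V g * T₀) = g.ofConv f) :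
    ∃ T : Module.End k V, (∀ g : Pt k A, Commute T (actHom k A V g)) ∧
      ∀ g : Pt k A, LinearMap.trace k V (actHom k A V g ∘ₗ T) = g.ofConv f := by
  haveI : IsReduced A := Aug.isReduced_of_charZero (k := k)
  let ρ := actHom k A V
  letI hom : HopfRep.Comod k A (V →ₗ[k] V) := homComod (A := A) (V := V) (W := V)
  have hact : ∀ (g : Pt k A) (T : Module.End k V), actHom k A (V →ₗ[k] V) g T = ρ g * T * ρ g⁻¹ :=
    act_homComod
  let K : Submodule k (V →ₗ[k] V) :=
    ⨅ g : Pt k A, LinearMap.ker ((LinearMap.trace k V).comp (LinearMap.mulLeft k (ρ g)))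
  have hKmem : ∀ T : V →ₗ[k] V, T ∈ K ↔ ∀ g : Pt k A, LinearMap.trace k V (ρ g * (T : Module.End k V)) = 0 :=
    fun T => by simp [K, Submodule.mem_iInf]
  have hshift : ∀ (g x : Pt k A) (T : Module.End k V), LinearMap.trace k V (ρ g * (ρ x * T * ρ x⁻¹)) =
      LinearMap.trace k V (ρ (x⁻¹ * g * x) * T) := fun g x T => by
    rw [← mul_assoc, LinearMap.trace_mul_comm k (ρ g * (ρ x * T)) (ρ x⁻¹)]
    simp only [map_mul, mul_assoc]
  have hK : HopfRep.IsSubcomod (k := k) (A := A) K :=
    Conn.isSubcomod_of_forall_point (k := k) (A := A) (V := V →ₗ[k] V) K fun x T hT => (hKmem _).2 fun g => by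
      rw [hact, hshift]
      exact (hKmem T).1 hT _
  obtain ⟨M, hM, hKM⟩ := isSemisimpleComod_of_isLinearlyReductive hred (V →ₗ[k] V) K hK
  obtain ⟨a₀, ha₀, T, hT, hsum⟩ : ∃ a₀ ∈ K, ∃ T ∈ M, a₀ + T = (T₀ : V →ₗ[k] V) :=
    Submodule.mem_sup.1 (by rw [hKM.sup_eq_top]; trivial)
  have hstab : ∀ (U : Submodule k (V →ₗ[k] V)), HopfRep.IsSubcomod (k := k) (A := A) U → ∀ (g : Pt k A),
      ∀ u ∈ U, actHom k A (V →ₗ[k] V) g u ∈ U := fun U hU g u hu =>
    (isSubcomod_iff U).1 hU g.ofConv.toLinearMap u hu
  have htr : ∀ g : Pt k A, LinearMap.trace k V (ρ g * T) = g.ofConv f := fun g => by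
    have h0 := (hKmem a₀).1 ha₀ g
    rw [← htr0 g]
    show _ = LinearMap.trace k V (ρ g * T₀)
    rw [← (show (a₀ : Module.End k V) + T = T₀ from hsum), mul_add, map_add, h0, zero_add]
  have hfix : ∀ g : Pt k A, ρ g * T * ρ g⁻¹ = T := fun g => by
    rw [← hact]
    refine sub_eq_zero.1 ((Submodule.disjoint_def.1 hKM.disjoint) _ ?_ (M.sub_mem (hstab M hM g _ hT) hT))
    refine (hKmem _).2 fun h => ?_
    show LinearMap.trace k V (ρ h * ((actHom k A (V →ₗ[k] V) g T : Module.End k V) - T)) = 0
    rw [mul_sub, map_sub, hact, hshift, htr, htr, sub_eq_zero]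
    have := hf g⁻¹ h
    rwa [inv_inv] at this
  refine ⟨T, fun g => ?_, htr⟩
  calc T * ρ g = ρ g * T * ρ g⁻¹ * ρ g := by rw [hfix g]
    _ = ρ g * T := by rw [mul_assoc, ← map_mul, inv_mul_cancel, map_one, mul_one]

/-- a class function of a linearly reductive group is a combination of characters -/
theorem mem_span_chars_of_conj (hred : HopfRep.IsLinearlyReductive k A) {f : A}
    (hf : ∀ x g : Pt k A, (x * g * x⁻¹).ofConv f = g.ofConv f) : f ∈ Submodule.span k (chars k A) := by
  obtain ⟨W, hWfin, hle, hW⟩ := exists_finite_subcomod_le (k := k) (A := A) (Submodule.span k {f})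
  have hfW : f ∈ W := hle (Submodule.mem_span_singleton_self f)
  letI := ComodSub.Comod.restr (HopfRep.Comod.regular k A) W hW
  have hρ : ∀ (g : Pt k A) (w : W), (actHom k A W g w : A) = HopfRep.Comod.act k A A g.ofConv w := fun g w =>
    IsComodHom.dact (ComodSub.isComodHom_subtype (HopfRep.Comod.regular k A) W hW) g.ofConv.toLinearMap w
  let ε : W →ₗ[k] k := (CoalgebraStruct.counit (R := k) (A := A)).comp W.subtype
  obtain ⟨T, hTc, htr⟩ := exists_commute_trace hred hf (V := W) (ε.smulRight ⟨f, hfW⟩) fun g => by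
    rw [show actHom k A W g * ε.smulRight ⟨f, hfW⟩ = ε.smulRight (actHom k A W g ⟨f, hfW⟩) from
        LinearMap.ext fun w => map_smul (actHom k A W g) (ε w) _, LinearMap.trace_smulRight]
    show CoalgebraStruct.counit (R := k) ((actHom k A W g ⟨f, hfW⟩ : W) : A) = _
    rw [hρ]
    exact counit_act g.ofConv f
  obtain ⟨a, ha, hae⟩ := exists_trace_comp (k := k) (A := A) W T hTc
  convert ha using 1
  exact eq_of_forall_pt (k := k) fun g => ((htr g).symm.trans (hae g).symm)

omit [IsAlgClosed k] [Algebra.FiniteType k A] in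
/-- characters of pairwise non-isomorphic simple comodules are independent -/
theorem linearIndependent_chars (n : ℕ) (d : Fin n → ℕ) (c : (i : Fin n) → HopfRep.Comod k A (Fin (d i) → k))
    (hs : ∀ i, @HopfRep.IsSimpleComod k A _ _ _ _ (Fin (d i) → k) _ _ (c i))
    (hne : ∀ i j, i ≠ j → ∀ P : (Fin (d i) → k) ≃ₗ[k] (Fin (d j) → k),
      LinearMap.rTensor A P.toLinearMap ∘ₗ (c i).coact ≠ (c j).coact ∘ₗ P.toLinearMap) :
    LinearIndependent k (fun i : Fin n => ∑ t : Fin (d i), TensorProduct.lid k A
      (LinearMap.rTensor A (LinearMap.proj t) ((c i).coact (Pi.single t 1)))) := by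
  classical
  let Λ := WithConv (A →ₗ[k] k)
  let p : Fin n → Submodule k A := fun i => @coeff k _ A _ _ (Fin (d i) → k) _ _ _ (c i)
  have hcnt : ∀ i, CoalgebraStruct.counit (R := k) (A := A) (∑ t : Fin (d i), TensorProduct.lid k A
      (LinearMap.rTensor A (LinearMap.proj t) ((c i).coact (Pi.single t 1)))) = (d i : k) := by
    intro i
    letI := c i
    simp only [map_sum, lid_rTensor_eq_lc, ← cf_apply, counit_cf]
    simp
  have hd : ∀ i, d i ≠ 0 := fun i h0 => by
    haveI := (hs i).1
    obtain ⟨a, b, hab⟩ := exists_pair_ne (Fin (d i) → k)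
    exact hab (funext fun t => absurd t.2 (by omega))
  have hiso : ∀ i, ∃ S : Submodule Λ A, IsSimpleModule Λ S ∧
      (letI := c i; toSub (p i) isSubcomod_coeff = isotypicComponent Λ A S ∧ Nonempty (S ≃ₗ[Λ] (Fin (d i) → k))) := by
    intro i
    letI := c i
    haveI := (hs i).1
    have hne0 : toSub (p i) isSubcomod_coeff ≠ ⊥ := fun e => coeff_ne_bot (k := k) (A := A) (V := Fin (d i) → k) (by
      show p i = ⊥
      rw [← restrictScalars_toSub (p i) isSubcomod_coeff, e]; simp)
    obtain ⟨S, hS, hle⟩ := exists_sub_simple _ hne0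
    obtain ⟨e⟩ := nonempty_equiv_of_le_coeff (hs i) S fun x hx => hle hx
    refine ⟨S, hS, ?_, ⟨e⟩⟩
    rw [toSub_coeff_eq (hs i)]
    exact congrArg sSup (Set.ext fun m => ⟨fun ⟨f⟩ => ⟨f.trans e.symm⟩, fun ⟨f⟩ => ⟨f.trans e⟩⟩)
  choose S hS hpS using hiso
  have hinj : Function.Injective fun i => isotypicComponent Λ A (S i) := by
    intro i j h
    by_contra hij
    letI := c j
    obtain ⟨ei⟩ := (hpS i).2
    have hle : (S i).restrictScalars k ≤ p j := by
      intro x hx
      have h1 : x ∈ isotypicComponent Λ A (S j) := (show isotypicComponent Λ A (S i) = isotypicComponent Λ A (S j) from h) ▸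
        (Submodule.le_isotypicComponent _ hx)
      rw [← (hpS j).1] at h1
      exact h1
    haveI := hS i
    obtain ⟨e⟩ := nonempty_equiv_of_le_coeff (hs j) (S i) hle
    letI := c i
    let E := ei.symm.trans e
    refine hne i j hij (E.restrictScalars k) ?_
    exact ((@isComodHom_restrictScalars k _ A _ _ (Fin (d i) → k) _ _ (Fin (d j) → k) _ _ _ _ (c i) (c j)
      E.toLinearMap)).symm
  have hind : iSupIndep p := by
    have h1 := ((sSupIndep_iff _).1 (sSupIndep_isotypicComponents Λ A)).comp
      (f := fun i => (⟨isotypicComponent Λ A (S i), S i, hS i, rfl⟩ : isotypicComponents Λ A))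
      fun i j h => hinj (congrArg Subtype.val h)
    have h2 : p = fun i => (isotypicComponent Λ A (S i)).restrictScalars k := funext fun i => by
      letI := c i
      rw [← (hpS i).1, restrictScalars_toSub]
    rw [h2]
    exact iSupIndep_restrictScalars h1
  refine hind.linearIndependent p (fun i => ?_) fun i h0 => ?_
  · letI := c i
    refine sum_mem fun t _ => ?_
    rw [lid_rTensor_eq_lc, ← cf_apply]
    exact cf_mem_coeff _ _
  · have := hcnt i
    rw [h0, map_zero] at this
    exact hd i (Nat.cast_eq_zero.1 this.symm)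

end Groth.Agent.Char34
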