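import Groth.Agent.Comod33.CartierReduced
import Mathlib.RingTheory.Filtration

/-!
A map into a smooth local ring which is injective on cotangent spaces is injective near the point.
-/

set_option autoImplicit false

universe u v

open MvPolynomial Groth.Agent.Comod33 Groth.Agent.Comod33.Aug

noncomputable section

namespace Groth.Agent.Char34

variable {k : Type u} [Field k] {B : Type v} [CommRing B] [Algebra k B]

theorem isHomogeneous_bind₁_linear {σ τ : Type*} {l : σ → MvPolynomial τ k} (hl : ∀ j, (l j).IsHomogeneous 1)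
    {P : MvPolynomial σ k} {n : ℕ} (hP : P.IsHomogeneous n) : (bind₁ l P).IsHomogeneous n := by
  have h := hP.aeval l hl
  rw [one_mul] at h
  exact h

/-- substituting congruent elements in a form moves it one level deeper -/
theorem aeval_sub_mem_pow_succ {σ : Type*} {I : Ideal B} {a a' : σ → B} (ha : ∀ i, a i ∈ I) (ha' : ∀ i, a' i ∈ I)
    (h : ∀ i, a i - a' i ∈ I ^ 2) {n : ℕ} {P : MvPolynomial σ k} (hP : P.IsHomogeneous n) :
    aeval a P - aeval a' P ∈ I ^ (n + 1) := by
  let R : ℕ → B → B → Prop := fun m x y => x ∈ I ^ m ∧ y ∈ I ^ m ∧ x - y ∈ I ^ (m + 1)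
  have hmul : ∀ {m m' x y x' y'}, R m x y → R m' x' y' → R (m + m') (x * x') (y * y') := by
    rintro m m' x y x' y' ⟨h1, h2, h3⟩ ⟨h1', h2', h3'⟩
    refine ⟨pow_add I m m' ▸ Ideal.mul_mem_mul h1 h1', pow_add I m m' ▸ Ideal.mul_mem_mul h2 h2', ?_⟩
    rw [show x * x' - y * y' = x * (x' - y') + (x - y) * y' by ring]
    refine Ideal.add_mem _ ?_ ?_
    · rw [add_assoc, pow_add]; exact Ideal.mul_mem_mul h1 h3'
    · rw [add_right_comm, pow_add]; exact Ideal.mul_mem_mul h3 h2'
  have hone : R 0 1 1 := ⟨by simp, by simp, by simp⟩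
  have hX : ∀ i, R 1 (a i) (a' i) := fun i => ⟨by simpa using ha i, by simpa using ha' i, h i⟩
  have hpow : ∀ i e, R e (a i ^ e) (a' i ^ e) := by
    intro i e
    induction e with
    | zero => rw [pow_zero, pow_zero]; exact hone
    | succ e ih => rw [pow_succ, pow_succ]; exact hmul ih (hX i)
  have hmon : ∀ d : σ →₀ ℕ, R d.degree (d.prod fun i e => a i ^ e) (d.prod fun i e => a' i ^ e) := by
    intro d
    induction d using Finsupp.induction with
    | zero => simpa using hone
    | single_add i e f hi he ih =>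
      rw [Finsupp.prod_add_index' (by simp) (fun _ _ _ => pow_add _ _ _),
        Finsupp.prod_add_index' (by simp) (fun _ _ _ => pow_add _ _ _), Finsupp.prod_single_index (by simp),
        Finsupp.prod_single_index (by simp), map_add, Finsupp.degree_single]
      exact hmul (hpow i e) ih
  rw [P.as_sum, map_sum, map_sum, ← Finset.sum_sub_distrib]
  refine Ideal.sum_mem _ fun d hd => ?_
  have hdeg : d.degree = n := by
    have := hP (MvPolynomial.mem_support_iff.1 hd)
    simpa [Finsupp.weight_apply, Finsupp.degree_apply, Finsupp.sum] using this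
  rw [aeval_monomial, aeval_monomial, ← mul_sub]
  exact Ideal.mul_mem_left _ _ (hdeg ▸ (hmon d).2.2)

theorem algHom_aeval {σ : Type*} {C : Type*} [CommRing C] [Algebra k C] (φ : B →ₐ[k] C) (y : σ → B)
    (P : MvPolynomial σ k) : φ (aeval y P) = aeval (fun i => φ (y i)) P :=
  DFunLike.congr_fun (comp_aeval y φ) P

variable {A : Type v} [CommRing A] [HopfAlgebra k A]

/-- the linear part of an element at the identity -/
theorem sub_linear_mem_sq (c : Coords k A) {z : A} (hz : z ∈ aug k A) :
    z - aeval c.x (∑ i, MvPolynomial.C (CoalgebraStruct.counit (R := k) (c.D i z)) * X i) ∈ aug k A ^ 2 := by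
  obtain ⟨s, hs, q, hq, rfl⟩ := Submodule.mem_sup.1 (c.le_span hz)
  obtain ⟨f, rfl⟩ := (Submodule.mem_span_range_iff_exists_fun A).1 hs
  have hD : ∀ i, CoalgebraStruct.counit (R := k) (c.D i (∑ l, f l • c.x l + q)) =
      CoalgebraStruct.counit (R := k) (f i) := by
    intro i
    have hqD : CoalgebraStruct.counit (R := k) (c.D i q) = 0 :=
      mem_aug_iff.1 (by simpa using derivation_mem_pow (aug k A) (c.D i) 1 q hq)
    rw [map_add, map_add, hqD, add_zero, map_sum, map_sum]
    rw [Finset.sum_eq_single i]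
    · have h1 := mem_aug_iff.1 (c.delta i i)
      rw [if_pos rfl, map_sub, Bialgebra.counit_one, sub_eq_zero] at h1
      simp [Derivation.leibniz, smul_eq_mul, mem_aug_iff.1 (c.mem i), h1]
    · intro l _ hl
      have h1 := mem_aug_iff.1 (c.delta i l)
      rw [if_neg hl, sub_zero] at h1
      simp [Derivation.leibniz, smul_eq_mul, mem_aug_iff.1 (c.mem l), h1]
    · exact fun h => absurd (Finset.mem_univ i) h
  simp only [hD]
  simp only [map_sum, map_mul, aeval_C, aeval_X, smul_eq_mul]
  rw [add_sub_right_comm, ← Finset.sum_sub_distrib]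
  refine Ideal.add_mem _ (Ideal.sum_mem _ fun i _ => ?_) hq
  rw [← sub_mul, pow_two]
  exact Ideal.mul_mem_mul (sub_mem_aug _) (c.mem i)

variable [CharZero k]

/-- injectivity on cotangent spaces gives injectivity near the point -/
theorem exists_mul_mem (c : Coords k A) [IsNoetherianRing B] (φ : B →ₐ[k] A) (N J : Ideal B)
    (hres : ∀ a, a - algebraMap k B (CoalgebraStruct.counit (R := k) (φ a)) ∈ N) (hN : ∀ a ∈ N, φ a ∈ aug k A)
    (hJ : J ≤ RingHom.ker φ)
    (htan : ∀ a ∈ N, (∀ i, CoalgebraStruct.counit (R := k) (c.D i (φ a)) = 0) → a ∈ N ^ 2 ⊔ J) :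
    ∀ a, φ a = 0 → ∃ u : B, 1 - u ∈ N ∧ u * a ∈ J := by
  let L : B →ₗ[k] Fin c.r → k :=
    LinearMap.pi fun i => CoalgebraStruct.counit.comp ((c.D i : A →ₗ[k] A).comp φ.toLinearMap)
  let e := Module.finBasis k ((N.restrictScalars k).map L)
  choose y hy hye using fun j => Submodule.mem_map.1 (e j).2
  let l : Fin _ → MvPolynomial (Fin c.r) k := fun j => ∑ i, MvPolynomial.C (L (y j) i) * X i
  have hl : ∀ j, (l j).IsHomogeneous 1 := fun j =>
    IsHomogeneous.sum _ _ _ fun i _ => (isHomogeneous_X k i).C_mul _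
  -- a left inverse of the linear substitution
  obtain ⟨π, hπ⟩ := ((N.restrictScalars k).map L).subtype.exists_leftInverse_of_injective (Submodule.ker_subtype _)
  let r : Fin c.r → MvPolynomial (Fin (Module.finrank k ((N.restrictScalars k).map L))) k := fun i =>
    ∑ j, MvPolynomial.C (e.repr (π (Pi.single i 1)) j) * X j
  have hrl : ∀ j, bind₁ r (l j) = X j := by
    intro j
    have h1 : ∀ t, ∑ i, L (y j) i * e.repr (π (Pi.single i 1)) t = if t = j then 1 else 0 := by
      intro t
      have h2 : π (L (y j)) = e j := by rw [hye]; exact LinearMap.congr_fun hπ (e j)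
      have h3 : L (y j) = ∑ i, L (y j) i • Pi.single i (1 : k) := pi_eq_sum_univ' _
      have h4 := congrArg (fun z => e.repr z t) h2
      rw [h3] at h4
      simp only [map_sum, map_smul, Finsupp.finsetSum_apply, Finsupp.smul_apply, smul_eq_mul,
        Module.Basis.repr_self, Finsupp.single_apply] at h4
      simpa [eq_comm] using h4
    simp only [l, r, map_sum, map_mul, bind₁_C_right, bind₁_X_right, Finset.mul_sum]
    rw [Finset.sum_comm]
    simp only [← mul_assoc, ← map_mul, ← Finset.sum_mul, ← map_sum, h1]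
    simp
  -- generators of the cotangent space
  have hlin : ∀ a ∈ N, ∃ P : MvPolynomial (Fin (Module.finrank k ((N.restrictScalars k).map L))) k,
      P.IsHomogeneous 1 ∧ a - aeval y P ∈ N ^ 2 ⊔ J := by
    intro a ha
    let t := e.repr ⟨L a, Submodule.mem_map_of_mem ha⟩
    refine ⟨∑ j, MvPolynomial.C (t j) * X j, IsHomogeneous.sum _ _ _ fun j _ => (isHomogeneous_X k j).C_mul _,
      htan _ (sub_mem ha ?_) fun i => ?_⟩
    · simp only [map_sum, map_mul, aeval_C, aeval_X]
      exact Ideal.sum_mem _ fun j _ => Ideal.mul_mem_left _ _ (hy j)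
    · show L (a - aeval y (∑ j, MvPolynomial.C (t j) * X j)) i = 0
      have h5 := congrArg Subtype.val (e.sum_repr ⟨L a, Submodule.mem_map_of_mem ha⟩)
      simp only [Submodule.coe_sum, Submodule.coe_smul] at h5
      simp only [map_sub, map_sum, map_mul, aeval_C, aeval_X, ← Algebra.smul_def, map_smul, hye, t]
      rw [h5, sub_self]; rfl
  have hlead : ∀ n, ∀ a ∈ N ^ n, ∃ P : MvPolynomial (Fin (Module.finrank k ((N.restrictScalars k).map L))) k,
      P.IsHomogeneous n ∧ a - aeval y P ∈ N ^ (n + 1) ⊔ J := by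
    intro n
    induction n with
    | zero =>
      intro a _
      refine ⟨MvPolynomial.C (CoalgebraStruct.counit (R := k) (φ a)), isHomogeneous_C _ _, ?_⟩
      rw [aeval_C]
      exact Submodule.mem_sup_left (by simpa using hres a)
    | succ n ih =>
      intro a ha
      rw [pow_succ] at ha
      induction ha using Submodule.mul_induction_on' with
      | mem_mul_mem b hb d hd =>
        obtain ⟨p, hp, hpb⟩ := ih b hb
        obtain ⟨q, hq, hqd⟩ := hlin d hd
        refine ⟨p * q, hp.mul hq, ?_⟩
        rw [map_mul, show b * d - aeval y p * aeval y q = b * (d - aeval y q) + (b - aeval y p) * aeval y q by ring]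
        refine Ideal.add_mem _ ?_ ?_
        · obtain ⟨s, hs, j, hj, hsj⟩ := Submodule.mem_sup.1 hqd
          rw [← hsj, mul_add]
          refine Submodule.add_mem_sup ?_ (Ideal.mul_mem_left _ _ hj)
          rw [show n + 1 + 1 = n + 2 by ring, pow_add]; exact Ideal.mul_mem_mul hb hs
        · obtain ⟨s, hs, j, hj, hsj⟩ := Submodule.mem_sup.1 hpb
          rw [← hsj, add_mul]
          refine Submodule.add_mem_sup ?_ (Ideal.mul_mem_right _ _ hj)
          rw [pow_succ]
          refine Ideal.mul_mem_mul hs ?_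
          have hqN : aeval y q ∈ N ^ 1 := by
            rw [q.as_sum, map_sum]
            refine Ideal.sum_mem _ fun d hd => ?_
            rw [aeval_monomial, pow_one]
            obtain ⟨i, hi⟩ : ∃ i, d i ≠ 0 := by
              by_contra h0
              push Not at h0
              have := hq (MvPolynomial.mem_support_iff.1 hd)
              rw [Finsupp.ext h0 (g := 0), map_zero] at this
              exact zero_ne_one this
            exact Ideal.mul_mem_left _ _ (Ideal.prod_mem _ (Finsupp.mem_support_iff.2 hi)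
              (Ideal.pow_mem_of_mem _ (hy i) _ (Nat.pos_of_ne_zero hi)))
          simpa using hqN
      | add a _ b _ ha hb =>
        obtain ⟨p, hp, hpa⟩ := ha
        obtain ⟨q, hq, hqb⟩ := hb
        refine ⟨p + q, hp.add hq, ?_⟩
        rw [map_add, show a + b - (aeval y p + aeval y q) = (a - aeval y p) + (b - aeval y q) by ring]
        exact Ideal.add_mem _ hpa hqb
  -- elements of the kernel are infinitely deep
  have hφN : ∀ n, ∀ z ∈ N ^ n, φ z ∈ aug k A ^ n := fun n z hz => by
    have h1 := Ideal.mem_map_of_mem φ hz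
    rw [Ideal.map_pow] at h1
    exact Ideal.pow_right_mono (Ideal.map_le_iff_le_comap.2 hN) n h1
  have hdeep : ∀ n a, φ a = 0 → a ∈ N ^ n ⊔ J := by
    intro n
    induction n with
    | zero => intro a _; simp
    | succ n ih =>
      intro a ha
      obtain ⟨a', ha', j, hj, rfl⟩ := Submodule.mem_sup.1 (ih a ha)
      have hφa' : φ a' = 0 := by
        rw [map_add, show φ j = 0 from hJ hj, add_zero] at ha; exact ha
      obtain ⟨P, hP, hPa⟩ := hlead n a' ha'
      have h1 : φ (aeval y P) ∈ aug k A ^ (n + 1) := by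
        obtain ⟨s, hs, j', hj', hsj⟩ := Submodule.mem_sup.1 hPa
        have h2 : φ (aeval y P) = - φ s := by
          have := congrArg φ hsj
          rw [map_add, map_sub, hφa', show φ j' = 0 from hJ hj', add_zero, zero_sub] at this
          rw [this, neg_neg]
        rw [h2]
        exact Ideal.neg_mem_iff _ |>.2 (hφN _ s hs)
      have h3 : aeval (fun j => φ (y j)) P - aeval (fun j => aeval c.x (l j)) P ∈ aug k A ^ (n + 1) :=
        aeval_sub_mem_pow_succ (fun j => hN _ (hy j)) (fun j => pow_one (aug k A) ▸ aeval_mem_pow c.mem (hl j))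
          (fun j => sub_linear_mem_sq c (hN _ (hy j))) hP
      have h4 : aeval c.x (bind₁ l P) ∈ aug k A ^ (n + 1) := by
        rw [algHom_aeval] at h1
        rw [aeval_bind₁]
        simpa using Ideal.sub_mem _ h1 h3
      have h5 := c.eq_zero_of_aeval_mem n (Nat.cast_ne_zero.2 n.factorial_ne_zero) _ (isHomogeneous_bind₁_linear hl hP) h4
      have h6 : P = 0 := by
        have := congrArg (bind₁ r) h5
        rw [bind₁_bind₁, map_zero] at this
        simpa [hrl, bind₁_X_left] using this
      rw [h6, map_zero, sub_zero] at hPa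
      exact Ideal.add_mem _ hPa (Ideal.mem_sup_right hj)
  intro a ha
  have hmem : (Submodule.Quotient.mk a : B ⧸ J) ∈ (⨅ i : ℕ, N ^ i • ⊤ : Submodule B (B ⧸ J)) := by
    refine (Submodule.mem_iInf _).2 fun i => ?_
    obtain ⟨s, hs, j, hj, hsj⟩ := Submodule.mem_sup.1 (hdeep i a ha)
    rw [← hsj, show (Submodule.Quotient.mk (s + j) : B ⧸ J) = s • Submodule.Quotient.mk 1 by
      rw [← Submodule.Quotient.mk_smul, smul_eq_mul, mul_one, Submodule.Quotient.eq, add_sub_cancel_left]; exact hj]
    exact Submodule.smul_mem_smul hs trivial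
  obtain ⟨r, hr⟩ := (Ideal.mem_iInf_smul_pow_eq_bot_iff (I := N) (M := B ⧸ J) _).1 hmem
  refine ⟨1 - r, by simp, ?_⟩
  rw [← Submodule.Quotient.mk_smul, Submodule.Quotient.eq, smul_eq_mul] at hr
  rw [show (1 - (r : B)) * a = -((r : B) * a - a) by ring]
  exact J.neg_mem_iff.2 hr

end Groth.Agent.Char34
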