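import Groth.Agent.Char34.Tangent
import Groth.Agent.Char34.LocalInj
import Groth.Agent.Char34.ClassFun
import Groth.Agent.FinGrp34.OrbitMap

/-!
Conjugacy classes of semisimple points are closed.
-/

set_option autoImplicit false

universe u

open TensorProduct WithConv Groth.Agent.Comod33 Groth.Agent.Comod33.Conn Groth.Agent.Hopf35.Stable Polynomial

noncomputable section

namespace Groth.Agent.Char34

variable {k : Type u} [Field k] [IsAlgClosed k] [CharZero k] {A : Type u} [CommRing A] [HopfAlgebra k A]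
  [Algebra.FiniteType k A]

theorem inOrbit_adPt_iff [IsReduced A] {g h : Pt k A} :
    InOrbit k A (adPt g) (adPt h) ↔ ∃ x : Pt k A, x * g * x⁻¹ = h := by
  constructor
  · rintro ⟨x, hx⟩
    have h1 := actPt_adPt (toConv x) g
    rw [ofConv_toConv, hx] at h1
    exact ⟨(toConv x)⁻¹, by rw [inv_inv]; exact (adPt_injective h1).symm⟩
  · rintro ⟨x, rfl⟩
    exact ⟨x⁻¹.ofConv, by rw [actPt_adPt, inv_inv]⟩

theorem counit_orb (h : Pt k A) (a : A) : CoalgebraStruct.counit (R := k) (orb h a) = h.ofConv a := by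
  have e : Conn.push 1 (toConv (orb h)) = h := by
    rw [orbitHom_adPt, map_mul, map_mul, map_inv, Conn.push_gen, Conn.push_const, inv_one, one_mul, mul_one]
  exact congr(($e).ofConv a)

theorem conj_eqn_eq_zero {V : Type u} [AddCommGroup V] [Module k V] [HopfRep.Comod k A V]
    {ι : Type} [Fintype ι] [DecidableEq ι] (b : Module.Basis ι k V) {m : k[X]} {h : Pt k A}
    (h0 : Polynomial.aeval (actHom k A V h) m = 0) (x : Pt k A) :
    Polynomial.aeval (actHom k A V (x * h * x⁻¹)) m = 0 := by
  let u : (Module.End k V)ˣ := Units.map (actHom k A V) (toUnits x)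
  have e : actHom k A V (x * h * x⁻¹) = MulSemiringAction.toAlgHom k (Module.End k V) (ConjAct.toConjAct u)
      (actHom k A V h) := by
    simp only [map_mul]
    rfl
  rw [e, aeval_algHom_apply, h0, map_zero]

theorem orb_eqn [IsReduced A] {V : Type u} [AddCommGroup V] [Module k V] [HopfRep.Comod k A V]
    {ι : Type} [Fintype ι] [DecidableEq ι] (b : Module.Basis ι k V) {m : k[X]} {h : Pt k A}
    (h0 : Polynomial.aeval (actHom k A V h) m = 0) (i j : ι) : orb h (eqn (A := A) b m i j) = 0 := by
  refine Conn.eq_zero_of_forall_point (k := k) fun x => ?_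
  show (Conn.push x (toConv (orb h))).ofConv (eqn (A := A) b m i j) = 0
  rw [orbitHom_adPt, map_mul, map_mul, map_inv, Conn.push_gen, Conn.push_const]
  have h1 := conj_eqn_eq_zero b h0 x⁻¹
  rw [inv_inv] at h1
  exact (aeval_actHom_eq_zero_iff b m _).1 h1 i j

/-- near each of its points the zero set of a separable polynomial lies in the class closure -/
theorem exists_local [IsReduced A] {V : Type u} [AddCommGroup V] [Module k V] [HopfRep.Comod k A V]
    {ι : Type} [Fintype ι] [DecidableEq ι] (b : Module.Basis ι k V)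
    (hgen : ∀ δ : A →ₗ[k] k, IsDerAt (1 : Pt k A) δ → (∀ (φ : V →ₗ[k] k) (w : V), δ (cf (A := A) φ w) = 0) → δ = 0)
    {m : k[X]} (hm : m.Separable) {h : Pt k A} (h0 : Polynomial.aeval (actHom k A V h) m = 0) :
    ∃ u : A, h.ofConv u = 1 ∧ ∀ z : Pt k A, Polynomial.aeval (actHom k A V z) m = 0 → z.ofConv u ≠ 0 →
      GLin.InOrbitClosure k A (adPt h) (adPt z) := by
  classical
  haveI : IsNoetherianRing A := Algebra.FiniteType.isNoetherianRing k A
  haveI : Module.Finite k V := Module.Finite.of_basis b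
  haveI := Aug.finite_cotangent (k := k) (A := A)
  obtain ⟨c⟩ := Aug.nonempty_coords (k := k) (A := A)
  let N : Ideal A := RingHom.ker h.ofConv
  let J : Ideal A := Ideal.span (Set.range fun p : ι × ι => eqn (A := A) b m p.1 p.2)
  have hss : Module.End.IsSemisimple (actHom k A V h) :=
    Module.End.isSemisimple_of_squarefree_aeval_eq_zero hm.squarefree h0
  have hJN : J ≤ N := Ideal.span_le.2 (by
    rintro _ ⟨p, rfl⟩; exact (aeval_actHom_eq_zero_iff b m h).1 h0 _ _)
  have key := exists_mul_mem c (orb h) N J (fun a => by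
      show h.ofConv (a - _) = 0
      rw [map_sub, AlgHom.commutes, counit_orb]; exact sub_self _)
    (fun a ha => Aug.mem_aug_iff.2 ((counit_orb h a).trans ha))
    (Ideal.span_le.2 (by rintro _ ⟨p, rfl⟩; exact orb_eqn b h0 _ _))
    (fun a ha hD => by
      by_contra hne
      let S : Submodule k A := (N ^ 2 ⊔ J).restrictScalars k ⊔ Submodule.span k {1}
      have haS : a ∉ S := by
        intro haS
        obtain ⟨z, hz, t, ht, hzt⟩ := Submodule.mem_sup.1 haS
        obtain ⟨r, rfl⟩ := Submodule.mem_span_singleton.1 ht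
        have hzN : h.ofConv z = 0 := sup_le (Ideal.pow_le_self two_ne_zero) hJN hz
        have e := congrArg h.ofConv hzt
        rw [map_add, hzN, zero_add, map_smul, map_one, show h.ofConv a = 0 from ha, smul_eq_mul, mul_one] at e
        rw [e, zero_smul, add_zero] at hzt
        exact hne (hzt ▸ hz)
      obtain ⟨v, hva, hvS⟩ := Submodule.exists_le_ker_of_notMem haS
      have hv1 : v 1 = 0 := hvS (Submodule.mem_sup_right (Submodule.mem_span_singleton_self _))
      have hv : IsDerAt h v := fun x y => by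
        have h2 : (x - algebraMap k A (h.ofConv x)) * (y - algebraMap k A (h.ofConv y)) ∈ S := by
          refine Submodule.mem_sup_left (Submodule.mem_sup_left ?_)
          rw [pow_two]
          exact Ideal.mul_mem_mul (RingHom.mem_ker.2 (by simp)) (RingHom.mem_ker.2 (by simp))
        have h3 : v ((x - algebraMap k A (h.ofConv x)) * (y - algebraMap k A (h.ofConv y))) = 0 := hvS h2
        simp only [Algebra.algebraMap_eq_smul_one, sub_mul, mul_sub, smul_mul_assoc, mul_smul_comm, one_mul, mul_one,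
          map_sub, map_smul, hv1, smul_zero, sub_zero, smul_eq_mul] at h3
        linear_combination h3
      obtain ⟨δ, hδ, hvδ⟩ := exists_der_comp_orb b hgen hss hm h0 hv fun i j => hvS
        (Submodule.mem_sup_left (Submodule.mem_sup_right (Ideal.subset_span ⟨(i, j), rfl⟩)))
      have haug : orb h a ∈ Aug.aug k A := Aug.mem_aug_iff.2 ((counit_orb h a).trans ha)
      have h4 := sub_linear_mem_sq c haug
      simp only [hD, map_zero, zero_mul, Finset.sum_const_zero, sub_zero, pow_two] at h4
      refine hva ?_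
      rw [hvδ]
      refine Submodule.mul_induction_on h4 (fun p hp q hq => ?_) (fun p q hp hq => by rw [map_add, hp, hq, add_zero])
      rw [hδ p q, show (1 : Pt k A).ofConv p = 0 from Aug.mem_aug_iff.1 hp,
        show (1 : Pt k A).ofConv q = 0 from Aug.mem_aug_iff.1 hq]
      ring)
  obtain ⟨s, hs⟩ := IsNoetherian.noetherian (RingHom.ker (orb h))
  choose! u hu hua using key
  refine ⟨∏ a ∈ s, u a, ?_, fun z hz hzu => ?_⟩
  · rw [map_prod]
    refine Finset.prod_eq_one fun a ha => ?_
    have h2 : h.ofConv (1 - u a) = 0 := hu a (RingHom.mem_ker.1 (hs ▸ Submodule.subset_span ha))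
    rw [map_sub, map_one, sub_eq_zero] at h2
    exact h2.symm
  · intro (f : A) hf
    have hf' : f ∈ Submodule.span A (s : Set A) := hs ▸ hf
    show z.ofConv f = 0
    refine (Submodule.span_induction (p := fun f _ => z.ofConv ((∏ a ∈ s, u a) * f) = 0) ?_ ?_ ?_ ?_ hf' :
      z.ofConv ((∏ a ∈ s, u a) * f) = 0) |> fun e => ((mul_eq_zero.1 ((map_mul z.ofConv _ f).symm.trans e)).resolve_left hzu)
    · intro a ha
      rw [← Finset.mul_prod_erase s u ha, mul_comm (u a), mul_assoc, map_mul]
      refine mul_eq_zero_of_right _ ?_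
      have hzJ : J ≤ RingHom.ker z.ofConv := Ideal.span_le.2 (by
        rintro _ ⟨p, rfl⟩; exact (aeval_actHom_eq_zero_iff b m z).1 hz _ _)
      exact hzJ (hua a (RingHom.mem_ker.1 (hs ▸ Submodule.subset_span ha)))
    · simp
    · intro x y _ _ hx hy
      rw [mul_add, map_add, hx, hy, add_zero]
    · intro r x _ hx
      rw [smul_eq_mul, ← mul_assoc, mul_comm _ r, mul_assoc, map_mul, hx, mul_zero]

/-- the class of a semisimple point is closed -/
theorem isClosedOrbit_of_isSS {g : Pt k A} (hg : IsSS g) : GLin.IsClosedOrbit k A (adPt g) := by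
  classical
  haveI : IsReduced A := Aug.isReduced_of_charZero (k := k)
  obtain ⟨W, hW, hWf, hinj, hgen⟩ := exists_generating k A
  letI := ComodSub.Comod.restr (HopfRep.Comod.regular k A) W hW
  let b := Module.finBasis k W
  have hgen' : ∀ δ : A →ₗ[k] k, IsDerAt (1 : Pt k A) δ →
      (∀ (φ : W →ₗ[k] k) (w : W), δ (cf (A := A) φ w) = 0) → δ = 0 := fun δ hδ h =>
    hgen δ hδ.map_one hδ h
  have hH := hg W hWf
  let m := minpoly k (actHom k A W g)
  have hm : m.Separable := PerfectField.separable_iff_squarefree.2 hH.minpoly_squarefree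
  have h0 : Polynomial.aeval (actHom k A W g) m = 0 := minpoly.aeval k (actHom k A W g)
  rw [isClosedOrbit_iff]
  intro z hz
  obtain ⟨h, rfl⟩ := exists_adPt z
  have hh : Polynomial.aeval (actHom k A W h) m = 0 :=
    (aeval_actHom_eq_zero_iff b m h).2 fun i j => hz (RingHom.mem_ker.2 (orb_eqn b h0 i j))
  obtain ⟨u, hu, hcl⟩ := exists_local b hgen' hm hh
  obtain ⟨x, hx⟩ : ∃ x : Pt k A, (x * g * x⁻¹).ofConv u ≠ 0 := by
    by_contra hc
    push Not at hc
    have hk : orb g u = 0 := Conn.eq_zero_of_forall_point (k := k) fun x => by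
      show (Conn.push x (toConv (orb g))).ofConv u = 0
      rw [orbitHom_adPt, map_mul, map_mul, map_inv, Conn.push_gen, Conn.push_const]
      simpa using hc x⁻¹
    exact one_ne_zero (hu.symm.trans (hz (RingHom.mem_ker.2 hk)))
  have h1 := hcl _ (conj_eqn_eq_zero b h0 x) hx
  have h2 : InOrbit k A (adPt g) (adPt (x * g * x⁻¹)) := inOrbit_adPt_iff.2 ⟨x, rfl⟩
  exact FinGrp34.OrbitMap.inOrbit_of_mutual hz fun f hf =>
    h2.symm.inOrbitClosure (ker_le_of_inOrbitClosure h1 hf)

/-- finitely many classes carry the zero set of a separable polynomial -/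
theorem exists_finite_classes [IsReduced A] {V : Type u} [AddCommGroup V] [Module k V] [HopfRep.Comod k A V]
    [Module.Finite k V] (hinj : Function.Injective (actHom k A V))
    (hgen : ∀ δ : A →ₗ[k] k, IsDerAt (1 : Pt k A) δ → (∀ (φ : V →ₗ[k] k) (w : V), δ (cf (A := A) φ w) = 0) → δ = 0)
    {m : k[X]} (hm : m.Separable) :
    ∃ (N : ℕ) (h : Fin N → Pt k A), (∀ i, IsSS (h i)) ∧
      ∀ z : Pt k A, Polynomial.aeval (actHom k A V z) m = 0 → ∃ (i : Fin N) (x : Pt k A), x * h i * x⁻¹ = z := by
  classical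
  let b := Module.finBasis k V
  choose u hu hcl using fun h : {h : Pt k A // Polynomial.aeval (actHom k A V h) m = 0} =>
    exists_local b hgen hm h.2
  let J : Ideal A := Ideal.span (Set.range fun p : Fin _ × Fin _ => eqn (A := A) b m p.1 p.2)
  have htop : J ⊔ Ideal.span (Set.range u) = ⊤ := by
    by_contra hne
    obtain ⟨z, hz⟩ := LinRed34.exists_point (k := k) _ hne
    have hzm : Polynomial.aeval (actHom k A V (toConv z)) m = 0 :=
      (aeval_actHom_eq_zero_iff b m _).2 fun i j => hz _ (Submodule.mem_sup_left (Ideal.subset_span ⟨(i, j), rfl⟩))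
    exact one_ne_zero ((hu ⟨_, hzm⟩).symm.trans (hz _ (Submodule.mem_sup_right (Ideal.subset_span ⟨⟨_, hzm⟩, rfl⟩))))
  obtain ⟨a, ha, w, hw, haw⟩ := Submodule.mem_sup.1 ((Ideal.eq_top_iff_one _).1 htop)
  obtain ⟨T, hT, hwT⟩ := Submodule.mem_span_finite_of_mem_span hw
  choose f hf using fun t : T => hT t.2
  let e := T.equivFin
  have hSS : ∀ i, IsSS (f (e.symm i)).1 := fun i =>
    isSS_of_faithful hinj (Module.End.isSemisimple_of_squarefree_aeval_eq_zero hm.squarefree (f (e.symm i)).2)
  refine ⟨T.card, fun i => (f (e.symm i)).1, hSS, fun z hz => ?_⟩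
  obtain ⟨t, ht, hzt⟩ : ∃ t ∈ T, z.ofConv t ≠ 0 := by
    by_contra hc
    push Not at hc
    have h1 : z.ofConv w = 0 := (Ideal.span_le.2 (fun t ht => RingHom.mem_ker.2 (hc t ht)) : Ideal.span (T : Set A) ≤ RingHom.ker z.ofConv) hwT
    have h2 : z.ofConv a = 0 := (Ideal.span_le.2 (by
      rintro _ ⟨p, rfl⟩; exact (aeval_actHom_eq_zero_iff b m z).1 hz _ _) : J ≤ RingHom.ker z.ofConv) ha
    have := congrArg z.ofConv haw
    rw [map_add, h1, h2, add_zero, map_one] at this
    exact zero_ne_one this
  have h3 := hcl (f ⟨t, ht⟩) z hz (by rw [hf ⟨t, ht⟩]; exact hzt)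
  refine ⟨e ⟨t, ht⟩, inOrbit_adPt_iff.1 ?_⟩
  simp only [Equiv.symm_apply_apply]
  exact isClosedOrbit_iff.1 (isClosedOrbit_of_isSS (by simpa using hSS (e ⟨t, ht⟩))) _ h3

/-- in a linearly reductive group closed classes are separated by characters -/
theorem exists_conj_of_trace (hred : HopfRep.IsLinearlyReductive k A) {g h : Pt k A}
    (hg : GLin.IsClosedOrbit k A (adPt g)) (hh : GLin.IsClosedOrbit k A (adPt h))
    (htr : ∀ (d : ℕ) (c : HopfRep.Comod k A (Fin d → k)),
      LinearMap.trace k (Fin d → k) (@HopfRep.Comod.act k A _ _ _ (Fin d → k) _ _ c g.ofConv) =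
        LinearMap.trace k (Fin d → k) (@HopfRep.Comod.act k A _ _ _ (Fin d → k) _ _ c h.ofConv)) :
    ∃ x : Pt k A, x * g * x⁻¹ = h := by
  haveI : IsReduced A := Aug.isReduced_of_charZero (k := k)
  have hinv : ∀ f ∈ GLin.invariants k A (Ad A), adPt g f = adPt h f := by
    intro f hf
    have hspan : (f : A) ∈ Submodule.span k (chars k A) := mem_span_chars_of_conj hred (invariants_adPt hf)
    suffices ∀ a : A, a ∈ Submodule.span k (chars k A) → g.ofConv a = h.ofConv a from this f hspan
    intro a ha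
    induction ha using Submodule.span_induction with
    | mem a ha =>
      obtain ⟨⟨d, c⟩, rfl⟩ := ha
      dsimp only
      rw [chr_eq, chr_eq]; exact htr d c
    | zero => simp
    | add a b _ _ ha hb => rw [map_add, map_add, ha, hb]
    | smul r a _ ha => rw [map_smul, map_smul, ha]
  obtain ⟨z, hz1, hz2⟩ := (LinRed34.forall_invariants_eq_iff hred _ _).1 hinv
  have e1 := isClosedOrbit_iff.1 hg z (inOrbitClosure_iff.2 hz1)
  have e2 := isClosedOrbit_iff.1 hh z (inOrbitClosure_iff.2 hz2)
  exact inOrbit_adPt_iff.1 (e1.trans e2.symm)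

end Groth.Agent.Char34
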