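import Groth.Agent.Comod33.Connected
import Groth.Agent.Comod33.IdentityComp
import Groth.Agent.Comod33.Units
import Groth.Agent.Comod33.CartierReduced

/-!
The identity component on rational points has finite index.
-/

set_option autoImplicit false

universe u

open TensorProduct WithConv Groth.Agent.Comod33 Groth.Agent.Comod33.Conn

noncomputable section

namespace Groth.Agent.Char34

variable {k : Type u} [Field k] {A : Type u} [CommRing A] [HopfAlgebra k A]

/-- a reduced Noetherian ring has finitely many idempotents -/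
theorem finite_idempotents (B : Type u) [CommRing B] [IsNoetherianRing B] [IsReduced B] :
    Finite {e : B // IsIdempotentElem e} := by
  classical
  haveI : Finite {p : Ideal B // p ∈ minimalPrimes B} := (minimalPrimes.finite_of_isNoetherianRing B).to_subtype
  refine Finite.of_injective (fun e (p : {p : Ideal B // p ∈ minimalPrimes B}) => decide ((e : B) ∈ p.1))
    fun e f h => Subtype.ext ?_
  refine sub_eq_zero.1 (IsNilpotent.eq_zero ?_)
  rw [← mem_nilradical, nilradical, ← Ideal.sInf_minimalPrimes, Submodule.mem_sInf]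
  intro p hp
  haveI := hp.1.1
  have hiff : (e : B) ∈ p ↔ (f : B) ∈ p := by simpa using congrFun h ⟨p, hp⟩
  by_cases he : (e : B) ∈ p
  · exact sub_mem he (hiff.1 he)
  · have h1 : (1 : B) - e ∈ p := ((‹Ideal.IsPrime p›).mem_or_mem (show (e : B) * (1 - e) ∈ p by
      rw [mul_sub, mul_one, e.2.eq, sub_self]; exact zero_mem _)).resolve_left he
    have h2 : (1 : B) - f ∈ p := ((‹Ideal.IsPrime p›).mem_or_mem (show (f : B) * (1 - f) ∈ p by
      rw [mul_sub, mul_one, f.2.eq, sub_self]; exact zero_mem _)).resolve_left fun hf => he (hiff.2 hf)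
    have h3 := sub_mem h2 h1
    simpa using h3

variable {e : A} (he : IsIdempotentElem e) (hε : CoalgebraStruct.counit (R := k) e = 1)
  (hmin : ∀ e' : A, IsIdempotentElem e' → CoalgebraStruct.counit (R := k) e' = 1 → e * e' = e)

include he hmin in
theorem word_eq_one (w : GA k A) (h1 : (Conn.push 1 w).ofConv e = 1) {g : Pt k A} (hg : g.ofConv e = 1) :
    (Conn.push g w).ofConv e = 1 := by
  have h := congrArg g.ofConv (hmin _ (he.map w.ofConv) h1)
  rw [map_mul, hg, one_mul] at h
  exact h

include he hε hmin in
theorem exists_component :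
    ∃ G₀ : Subgroup (Pt k A), (∀ g : Pt k A, g ∈ G₀ ↔ g.ofConv e = 1) ∧ G₀.Normal ∧
      (∀ [IsNoetherianRing A] [IsReduced A], Finite (Pt k A ⧸ G₀)) := by
  have hone : (1 : Pt k A).ofConv e = 1 := hε
  have hmul : ∀ {g h : Pt k A}, g.ofConv e = 1 → h.ofConv e = 1 → (g * h).ofConv e = 1 := by
    intro g h hg hh
    have := word_eq_one he hmin (Conn.gen k A * const h)
      (by rwa [map_mul, Conn.push_gen, Conn.push_const, one_mul]) hg
    rwa [map_mul, Conn.push_gen, Conn.push_const] at this
  have hinv : ∀ {g : Pt k A}, g.ofConv e = 1 → g⁻¹.ofConv e = 1 := by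
    intro g hg
    have := word_eq_one he hmin (Conn.gen k A)⁻¹ (by rw [map_inv, Conn.push_gen, inv_one]; exact hone) hg
    rwa [map_inv, Conn.push_gen] at this
  refine ⟨{ carrier := {g | g.ofConv e = 1}, mul_mem' := hmul, one_mem' := hone, inv_mem' := hinv },
    fun g => Iff.rfl, ⟨fun g hg x => ?_⟩, ?_⟩
  · have := word_eq_one he hmin (const x * Conn.gen k A * const x⁻¹)
      (by rw [map_mul, map_mul, Conn.push_gen, Conn.push_const, Conn.push_const, mul_one, mul_inv_cancel]; exact hone)
      (hg : g.ofConv e = 1)
    rwa [map_mul, map_mul, Conn.push_gen, Conn.push_const, Conn.push_const] at this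
  · intro _ _
    haveI := finite_idempotents A
    refine Finite.of_injective (β := {x : A // IsIdempotentElem x})
      (fun c => ⟨(Conn.gen k A * const c.out).ofConv e, he.map _⟩) fun c d hcd => ?_
    have h := congrArg (fun z : {x : A // IsIdempotentElem x} => (c.out⁻¹).ofConv z.1) hcd
    change (Conn.push c.out⁻¹ (Conn.gen k A * const c.out)).ofConv e =
      (Conn.push c.out⁻¹ (Conn.gen k A * const d.out)).ofConv e at h
    rw [map_mul, map_mul, Conn.push_gen, Conn.push_const, Conn.push_const, inv_mul_cancel, hone] at h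
    rw [← QuotientGroup.out_eq' c, ← QuotientGroup.out_eq' d, QuotientGroup.eq]
    exact h.symm

end Groth.Agent.Char34
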