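import Groth.Agent.Char34.Powers
import Groth.Agent.CAlg1.NagataTheorem
import Mathlib.LinearAlgebra.Eigenspace.Charpoly
import Mathlib.Algebra.Polynomial.Lifts

/-!
The characters of a closed subgroup are finite over the characters of the group.
-/

set_option autoImplicit false

universe u w

open TensorProduct Polynomial Groth.Agent.Comod33 Groth.Agent.Comod33.Conn

noncomputable section

namespace Groth.Agent.Char34

/-- a field is a Nagata ring -/
theorem isNagata_field (k : Type u) [Field k] : CAlg.IsNagata k := by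
  refine ⟨inferInstance, fun p _ => ?_⟩
  intro L _ _ _ _ _
  haveI : p.IsMaximal := (Ideal.eq_bot_or_top p).resolve_right (Ideal.IsPrime.ne_top ‹_›) ▸ Ideal.bot_isMaximal
  letI : Field (k ⧸ p) := Ideal.Quotient.field p
  have hb : Function.Bijective (algebraMap (k ⧸ p) (FractionRing (k ⧸ p))) := by
    refine ⟨IsFractionRing.injective (k ⧸ p) _, fun z => ?_⟩
    obtain ⟨a, b, hb, rfl⟩ := IsFractionRing.div_surjective (A := k ⧸ p) z
    exact ⟨a * b⁻¹, by rw [map_mul, map_inv₀, div_eq_mul_inv]⟩
  haveI : Module.Finite (k ⧸ p) (FractionRing (k ⧸ p)) :=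
    Module.Finite.of_surjective (Algebra.linearMap (k ⧸ p) (FractionRing (k ⧸ p))) hb.2
  haveI : Module.Finite (k ⧸ p) L := Module.Finite.trans (FractionRing (k ⧸ p)) L
  exact Module.Finite.of_injective (integralClosure (k ⧸ p) L).val.toLinearMap Subtype.val_injective

section GenEig

variable {k : Type u} [Field k] {S : Type u} [CommRing S] [Algebra k S] (φ : S →ₐ[k] S)

theorem mul_mem_ker : ∀ (n i j : ℕ) (a b : k) (u v : S), i + j ≤ n →
    ((φ.toLinearMap - a • 1 : Module.End k S) ^ i) u = 0 →
    ((φ.toLinearMap - b • 1 : Module.End k S) ^ j) v = 0 →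
    ((φ.toLinearMap - (a * b) • 1 : Module.End k S) ^ n) (u * v) = 0
  | 0, i, j, a, b, u, v, h, hu, _ => by
    obtain rfl : i = 0 := by omega
    simp only [pow_zero, Module.End.one_apply] at hu ⊢
    rw [hu, zero_mul]
  | n + 1, i, j, a, b, u, v, h, hu, hv => by
    rcases Nat.eq_zero_or_pos i with rfl | hi
    · simp only [pow_zero, Module.End.one_apply] at hu
      rw [hu, zero_mul, map_zero]
    rcases Nat.eq_zero_or_pos j with rfl | hj
    · simp only [pow_zero, Module.End.one_apply] at hv
      rw [hv, mul_zero, map_zero]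
    obtain ⟨i, rfl⟩ : ∃ i', i = i' + 1 := ⟨i - 1, by omega⟩
    obtain ⟨j, rfl⟩ : ∃ j', j = j' + 1 := ⟨j - 1, by omega⟩
    rw [pow_succ, Module.End.mul_apply]
    have e : (φ.toLinearMap - (a * b) • 1 : Module.End k S) (u * v) =
        (φ.toLinearMap - a • 1 : Module.End k S) u * φ v + (a • u) * (φ.toLinearMap - b • 1 : Module.End k S) v := by
      simp [map_mul, sub_mul, mul_sub, Algebra.smul_def]
      ring
    rw [e, map_add]
    have h1 : ((φ.toLinearMap - b • 1 : Module.End k S) ^ (j + 1)) (φ v) = 0 := by
      have hc : Commute ((φ.toLinearMap - b • 1 : Module.End k S) ^ (j + 1)) φ.toLinearMap :=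
        ((Commute.refl _).sub_left ((Commute.one_left _).smul_left b)).pow_left _
      show (((φ.toLinearMap - b • 1 : Module.End k S) ^ (j + 1)) * φ.toLinearMap) v = 0
      rw [hc.eq, Module.End.mul_apply, hv, map_zero]
    rw [pow_succ, Module.End.mul_apply] at hu hv
    rw [mul_mem_ker n i (j + 1) a b _ (φ v) (by omega) hu h1, zero_add]
    refine mul_mem_ker n (i + 1) j a b (a • u) _ (by omega) ?_ hv
    rw [map_smul, pow_succ, Module.End.mul_apply, hu, smul_zero]

theorem mul_mem_maxGenEigenspace {a b : k} {u v : S}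
    (hu : u ∈ Module.End.maxGenEigenspace φ.toLinearMap a) (hv : v ∈ Module.End.maxGenEigenspace φ.toLinearMap b) :
    u * v ∈ Module.End.maxGenEigenspace φ.toLinearMap (a * b) := by
  rw [Module.End.mem_maxGenEigenspace] at hu hv ⊢
  obtain ⟨i, hi⟩ := hu
  obtain ⟨j, hj⟩ := hv
  exact ⟨i + j, mul_mem_ker φ (i + j) i j a b u v le_rfl hi hj⟩

/-- products of finitely many elements of a subspace decomposed into generalised eigenspaces -/
theorem pow_le_iSup (P : Submodule k S) (Λ : Set k) (hP : P ≤ ⨆ a ∈ Λ, Module.End.maxGenEigenspace φ.toLinearMap a) :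
    ∀ N : ℕ, P ^ N ≤ ⨆ (s : Fin N → Λ), Module.End.maxGenEigenspace φ.toLinearMap (∏ i, (s i : k))
  | 0 => by
    rw [pow_zero, Submodule.one_le]
    refine Submodule.mem_iSup_of_mem (fun i => i.elim0) ?_
    rw [Module.End.mem_maxGenEigenspace]
    exact ⟨1, by simp⟩
  | N + 1 => by
    rw [pow_succ, Submodule.mul_le]
    intro u hu v hv
    replace hu := pow_le_iSup P Λ hP N hu
    replace hv := hP hv
    rw [iSup_subtype'] at hv
    induction hu using Submodule.iSup_induction' with
    | zero => rw [zero_mul]; exact zero_mem _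
    | add x y _ _ hx hy => rw [add_mul]; exact add_mem hx hy
    | mem s x hx =>
      induction hv using Submodule.iSup_induction' with
      | zero => rw [mul_zero]; exact zero_mem _
      | add y z _ _ hy hz => rw [mul_add]; exact add_mem hy hz
      | mem a y hy =>
        refine Submodule.mem_iSup_of_mem (Fin.snoc s a) ?_
        rw [Fin.prod_univ_castSucc]
        simpa using mul_mem_maxGenEigenspace φ hx hy

end GenEig

variable {k : Type u} [Field k] {A : Type u} [CommRing A] [HopfAlgebra k A]

/-- the eigenvalues of a translation on a subspace of products -/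
theorem eigen_mem (φ : A →ₐ[k] A) {M : Submodule k A} {Λ : Set k}
    (hM : M ≤ ⨆ c ∈ Λ, Module.End.maxGenEigenspace φ.toLinearMap c)
    {μ : k} {p : A} (hp : p ∈ M) (hp0 : p ≠ 0) (hμ : φ p = μ • p) : μ ∈ Λ := by
  by_contra hμΛ
  have h1 : p ∈ Module.End.maxGenEigenspace φ.toLinearMap μ := by
    rw [Module.End.mem_maxGenEigenspace]
    exact ⟨1, by simp [hμ]⟩
  exact hp0 ((Submodule.disjoint_def.1 ((Module.End.independent_maxGenEigenspace φ.toLinearMap).disjoint_biSup hμΛ))
    p h1 (hM hp))

/-- a Hopf algebra map intertwines the translations -/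
theorem act_bialgHom {B : Type u} [CommRing B] [HopfAlgebra k B] (π : A →ₐc[k] B) (h : Pt k B) (a : A) :
    π (HopfRep.Comod.act k A A (h.ofConv.comp (π : A →ₐ[k] B)) a) = HopfRep.Comod.act k B B h.ofConv (π a) := by
  show π (rc (h.ofConv.comp (π : A →ₐ[k] B)).toLinearMap (CoalgebraStruct.comul (R := k) a)) =
    rc h.ofConv.toLinearMap (CoalgebraStruct.comul (R := k) (π a))
  rw [show CoalgebraStruct.comul (R := k) (π a) = TensorProduct.map (π : A →ₐ[k] B).toLinearMap (π : A →ₐ[k] B).toLinearMap
    (CoalgebraStruct.comul (R := k) a) from (CoalgHomClass.map_comp_comul_apply π a).symm]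
  generalize CoalgebraStruct.comul (R := k) a = z
  induction z with
  | zero => simp
  | add x y hx hy => simp only [map_add, hx, hy]
  | tmul x y =>
    show π (rc (h.ofConv.comp (π : A →ₐ[k] B)).toLinearMap (x ⊗ₜ[k] y)) = _
    simp [rc_tmul]

variable [IsAlgClosed k] [CharZero k] [Algebra.FiniteType k A]

/-- the symmetrised polynomial killing every candidate sum of products of eigenvalues -/
theorem exists_universal (D d N : ℕ) :
    ∃ Q : Polynomial (Algebra.adjoin k (Set.range fun r : Fin D => MvPolynomial.psum (Fin D) k (r + 1))),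
      Q.Monic ∧ ∀ (lam : Fin D → k) (s : Fin d → Fin N → Option (Fin D)),
        (Q.map ((MvPolynomial.aeval lam).toRingHom.comp (Subalgebra.val _).toRingHom)).eval
          (∑ a, ∏ b, (s a b).elim 1 lam) = 0 := by
  classical
  let c : (Fin d → Fin N → Option (Fin D)) → MvPolynomial (Fin D) k := fun s =>
    ∑ a, ∏ b, (s a b).elim 1 MvPolynomial.X
  let P : Polynomial (MvPolynomial (Fin D) k) := ∏ s, (X - C (c s))
  have hPm : P.Monic := monic_prod_of_monic _ _ fun s _ => monic_X_sub_C _
  have hsym : ∀ i, (P.coeff i).IsSymmetric := by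
    intro i e
    have hren : ∀ s, MvPolynomial.rename e (c s) = c fun a b => (s a b).map e := fun s => by
      simp only [c, map_sum, map_prod]
      refine Finset.sum_congr rfl fun a _ => Finset.prod_congr rfl fun b _ => ?_
      cases s a b <;> simp
    have hP : P.map (MvPolynomial.rename e : MvPolynomial (Fin D) k →ₐ[k] _).toRingHom = P := by
      simp only [P, Polynomial.map_prod, Polynomial.map_sub, Polynomial.map_X, Polynomial.map_C]
      refine Fintype.prod_equiv (Equiv.arrowCongr (Equiv.refl _) (Equiv.arrowCongr (Equiv.refl _) (Equiv.optionCongr e)))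
        _ _ fun s => ?_
      rw [AlgHom.toRingHom_eq_coe, RingHom.coe_coe, hren]
      rfl
    conv_rhs => rw [← hP]
    rw [Polynomial.coeff_map]
    rfl
  let S := Algebra.adjoin k (Set.range fun r : Fin D => MvPolynomial.psum (Fin D) k (r + 1))
  have hl : P ∈ lifts (Subalgebra.val S).toRingHom := by
    rw [lifts_iff_coeff_lifts]
    exact fun i => ⟨⟨P.coeff i, mem_adjoin_psum D (hsym i)⟩, rfl⟩
  obtain ⟨Q, hQP, -, hQm⟩ := lifts_and_natDegree_eq_and_monic hl hPm
  refine ⟨Q, hQm, fun lam s => ?_⟩
  rw [← Polynomial.map_map, hQP, Polynomial.map_prod, Polynomial.eval_prod]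
  refine Finset.prod_eq_zero (Finset.mem_univ s) ?_
  simp only [Polynomial.map_sub, Polynomial.map_X, Polynomial.map_C, eval_sub, eval_X, eval_C, c, sub_eq_zero]
  rw [AlgHom.toRingHom_eq_coe, RingHom.coe_coe, map_sum]
  refine Finset.sum_congr rfl fun a _ => ?_
  rw [map_prod]
  exact Finset.prod_congr rfl fun b _ => by cases s a b <;> simp

variable {B : Type u} [CommRing B] [HopfAlgebra k B] [Algebra.FiniteType k B]

/-- the characters of a closed subgroup form a finite module over the characters of the group -/
theorem exists_finite_chars (π : A →ₐc[k] B) (hπ : Function.Surjective π) :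
    ∃ F : Finset B, (↑F : Set B) ⊆ chars k B ∧
      (↑(Submodule.span k (chars k B)) : Set B) ⊆
        ↑(Submodule.span (Algebra.adjoin k (π '' chars k A)) (↑F : Set B)) := by
  classical
  haveI : IsReduced B := Aug.isReduced_of_charZero (k := k)
  obtain ⟨gens, hgens⟩ := ‹Algebra.FiniteType k A›.out
  obtain ⟨V, hVfin, hVle, hV⟩ := exists_finite_subcomod_le (k := k) (A := A) (Submodule.span k (gens : Set A))
  letI := ComodSub.Comod.restr (HopfRep.Comod.regular k A) V hV
  let D := Module.finrank k V
  have hps : ∀ r : ℕ, ∃ a ∈ Submodule.span k (chars k A), ∀ g : Pt k A,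
      g.ofConv a = LinearMap.trace k V (actHom k A V g ^ (r + 1)) := fun r => exists_trace_pow V r
  choose e he hev using hps
  let ψ : MvPolynomial (Fin D) k →ₐ[k] B := MvPolynomial.aeval fun r : Fin D => π (e r)
  let C₀ : Subalgebra k B := Algebra.adjoin k (π '' chars k A)
  have heC : ∀ r, π (e r) ∈ C₀ := fun r => by
    have h1 : (π : A →ₐ[k] B).toLinearMap (e r) ∈ (Submodule.span k (chars k A)).map (π : A →ₐ[k] B).toLinearMap :=
      ⟨_, he r, rfl⟩
    rw [Submodule.map_span] at h1
    exact (Submodule.span_le.2 (Algebra.subset_adjoin (R := k) (s := π '' chars k A)) :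
      Submodule.span k (π '' chars k A) ≤ Subalgebra.toSubmodule C₀) h1
  -- integrality
  have hint : ∀ (d : ℕ) (c : HopfRep.Comod k B (Fin d → k)) (f : B),
      (∀ h : Pt k B, h.ofConv f = LinearMap.trace k (Fin d → k) (@actHom k _ B _ _ (Fin d → k) _ _ c h)) →
      ∃ q : Polynomial (MvPolynomial (Fin D) k), q.Monic ∧ q.eval₂ ψ.toRingHom f = 0 := by
    intro d c f hf
    letI := c
    let P₁ : Submodule k A := Submodule.span k {1} ⊔ V
    have hmono : Monotone fun N => P₁ ^ N := monotone_nat_of_le_succ fun N x hx => by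
      rw [pow_succ, ← mul_one x]
      exact Submodule.mul_mem_mul hx (Submodule.mem_sup_left (Submodule.mem_span_singleton_self _))
    have htop : ∀ a : A, ∃ N, a ∈ P₁ ^ N := by
      intro a
      have ha : a ∈ Algebra.adjoin k (gens : Set A) := hgens ▸ trivial
      induction ha using Algebra.adjoin_induction with
      | mem x hx => exact ⟨1, by rw [pow_one]; exact Submodule.mem_sup_right (hVle (Submodule.subset_span hx))⟩
      | algebraMap r => exact ⟨0, by rw [pow_zero]; exact Submodule.algebraMap_mem r⟩
      | add x y _ _ hx hy =>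
        obtain ⟨M, hM⟩ := hx
        obtain ⟨N, hN⟩ := hy
        exact ⟨max M N, add_mem (hmono (le_max_left _ _) hM) (hmono (le_max_right _ _) hN)⟩
      | mul x y _ _ hx hy =>
        obtain ⟨M, hM⟩ := hx
        obtain ⟨N, hN⟩ := hy
        exact ⟨M + N, by rw [pow_add]; exact Submodule.mul_mem_mul hM hN⟩
    choose lift hlift using fun p : Fin d × Fin d =>
      hπ (cf (A := B) (LinearMap.proj (R := k) p.1) (Pi.single (M := fun _ : Fin d => k) p.2 1))
    choose Np hNp using fun p => htop (lift p)
    let N := Finset.univ.sup Np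
    have hc : ∀ (i : Fin d) (v : Fin d → k), ∃ a ∈ P₁ ^ N, π a = cf (A := B) (LinearMap.proj (R := k) i) v := by
      intro i v
      refine ⟨∑ j, v j • lift (i, j), sum_mem fun j _ => Submodule.smul_mem _ _
        (hmono (Finset.le_sup (Finset.mem_univ (i, j))) (hNp (i, j))), ?_⟩
      conv_rhs => rw [show v = ∑ j, v j • Pi.single (M := fun _ : Fin d => k) j 1 by
        simpa using ((Pi.basisFun k (Fin d)).sum_repr v).symm]
      simp only [map_sum, map_smul, hlift]
    obtain ⟨Q, hQm, hQ⟩ := exists_universal (k := k) D d N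
    let θ : MvPolynomial (Fin D) k →ₐ[k] MvPolynomial (Fin D) k :=
      MvPolynomial.aeval fun r : Fin D => MvPolynomial.psum (Fin D) k (r + 1)
    have hθ : ∀ s : Algebra.adjoin k (Set.range fun r : Fin D => MvPolynomial.psum (Fin D) k (r + 1)),
        ∃ m, θ m = (s : MvPolynomial (Fin D) k) := fun s => by
      have h1 : (s : MvPolynomial (Fin D) k) ∈ θ.range := by
        rw [← Algebra.adjoin_range_eq_range_aeval]; exact s.2
      exact h1
    obtain ⟨q, hqP, -, hqm⟩ := lifts_and_natDegree_eq_and_monic (f := θ.toRingHom)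
      (show Q.map (Subalgebra.val _).toRingHom ∈ lifts θ.toRingHom by
        rw [lifts_iff_coeff_lifts]
        exact fun i => by
          obtain ⟨m, hm⟩ := hθ (Q.coeff i)
          exact ⟨m, by rw [Polynomial.coeff_map]; exact hm⟩) (hQm.map _)
    refine ⟨q, hqm, eq_of_forall_pt (k := k) fun h => ?_⟩
    rw [map_zero]
    show (h.ofConv : B →+* k) (Polynomial.eval₂ ψ.toRingHom f q) = 0
    rw [Polynomial.hom_eval₂]
    let g : Pt k A := WithConv.toConv (h.ofConv.comp (π : A →ₐ[k] B))
    obtain ⟨lam, hlam, hlamμ⟩ := exists_eigen (k := k) (A := A) V g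
    have hcomp : (h.ofConv : B →+* k).comp ψ.toRingHom =
        ((MvPolynomial.aeval lam).comp θ : MvPolynomial (Fin D) k →ₐ[k] k).toRingHom := by
      refine congrArg AlgHom.toRingHom (MvPolynomial.algHom_ext (f := h.ofConv.comp ψ) fun r => ?_)
      show h.ofConv (ψ (MvPolynomial.X r)) = MvPolynomial.aeval lam (θ (MvPolynomial.X r))
      simp only [ψ, θ, MvPolynomial.aeval_X, MvPolynomial.psum, map_sum, map_pow]
      exact (hev r g).trans (hlam ((r : ℕ) + 1))
    rw [hcomp]
    let T := @actHom k _ B _ _ (Fin d → k) _ _ c h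
    let φ : A →ₐ[k] A := transAlgHom g.ofConv
    let Λ : Set k := Set.range fun o : Option (Fin D) => o.elim 1 lam
    have hφ : ∀ a, φ a = HopfRep.Comod.act k A A g.ofConv a := transAlgHom_eq g.ofConv
    have hP₁ : P₁ ≤ ⨆ a ∈ Λ, Module.End.maxGenEigenspace φ.toLinearMap a := by
      refine sup_le ?_ ?_
      · rw [Submodule.span_le, Set.singleton_subset_iff]
        refine Submodule.mem_iSup_of_mem 1 (Submodule.mem_iSup_of_mem ⟨none, rfl⟩ ?_)
        rw [Module.End.mem_maxGenEigenspace]
        exact ⟨1, by simp⟩
      · intro v hv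
        have htop := Module.End.iSup_maxGenEigenspace_eq_top (actHom k A V g)
        have : (⟨v, hv⟩ : V) ∈ ⨆ μ, (actHom k A V g).maxGenEigenspace μ := htop ▸ trivial
        suffices h' : ∀ w : V, w ∈ (⨆ μ, (actHom k A V g).maxGenEigenspace μ) →
            (w : A) ∈ ⨆ a ∈ Λ, Module.End.maxGenEigenspace φ.toLinearMap a from h' _ this
        intro w hw
        induction hw using Submodule.iSup_induction' with
        | zero => exact zero_mem _
        | add x y _ _ hx hy => exact add_mem hx hy
        | mem μ x hx =>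
          by_cases hbot : (actHom k A V g).maxGenEigenspace μ = ⊥
          · rw [hbot, Submodule.mem_bot] at hx
            rw [hx]; exact zero_mem _
          obtain ⟨i, hi⟩ := hlamμ μ hbot
          refine Submodule.mem_iSup_of_mem μ (Submodule.mem_iSup_of_mem ⟨some i, hi⟩ ?_)
          rw [Module.End.mem_maxGenEigenspace] at hx ⊢
          obtain ⟨n, hn⟩ := hx
          refine ⟨n, ?_⟩
          have key : ∀ (n : ℕ) (y : V), (((actHom k A V g - μ • 1) ^ n) y : A) =
              ((φ.toLinearMap - μ • 1 : Module.End k A) ^ n) (y : A) := by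
            intro n
            induction n with
            | zero => intro y; rfl
            | succ n ih =>
              intro y
              rw [pow_succ, pow_succ, Module.End.mul_apply, Module.End.mul_apply, ih]
              congr 1
              simp only [LinearMap.sub_apply, LinearMap.smul_apply, Module.End.one_apply, Submodule.coe_sub,
                Submodule.coe_smul, AlgHom.toLinearMap_apply, hφ]
              exact congrArg (· - μ • (y : A))
                (IsComodHom.dact (ComodSub.isComodHom_subtype (HopfRep.Comod.regular k A) V hV) g.ofConv.toLinearMap y)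
          rw [← key, hn, Submodule.coe_zero]
    let φB : B →ₐ[k] B := transAlgHom h.ofConv
    have hπφ : ∀ a, π (φ a) = φB (π a) := by
      intro a
      exact (congrArg π (hφ a)).trans ((act_bialgHom π h a).trans (transAlgHom_eq h.ofConv (π a)).symm)
    have hroots : ∀ μ ∈ T.charpoly.roots, ∃ s : Fin N → Option (Fin D), μ = ∏ b, (s b).elim 1 lam := by
      intro μ hμ
      have hev' : T.HasEigenvalue μ := (Module.End.hasEigenvalue_iff_isRoot_charpoly T μ).2
        (Polynomial.isRoot_of_mem_roots hμ)
      obtain ⟨w, hw⟩ := hev'.exists_hasEigenvector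
      obtain ⟨i, hi⟩ : ∃ i, w i ≠ 0 := Function.ne_iff.1 hw.2
      let p := cf (A := B) (LinearMap.proj (R := k) i) w
      have hp0 : p ≠ 0 := fun h0 => hi (by
        have := counit_cf (A := B) (LinearMap.proj (R := k) (φ := fun _ : Fin d => k) i) w
        rw [show cf (A := B) (LinearMap.proj (R := k) i) w = 0 from h0, map_zero] at this
        exact this.symm)
      have hpμ : φB p = μ • p := by
        rw [transAlgHom_eq]
        have hh := IsComodHom.dact (isComodHom_cf (A := B) (LinearMap.proj (R := k) (φ := fun _ : Fin d => k) i))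
          h.ofConv.toLinearMap w
        refine hh.symm.trans ?_
        rw [show dact h.ofConv.toLinearMap w = μ • w from hw.apply_eq_smul, map_smul]
      obtain ⟨a, ha, hap⟩ := hc i w
      have hle : (P₁ ^ N).map (π : A →ₐ[k] B).toLinearMap ≤
          ⨆ c ∈ (Set.range fun s : Fin N → Option (Fin D) => ∏ b, (s b).elim 1 lam),
            Module.End.maxGenEigenspace φB.toLinearMap c := by
        refine (Submodule.map_mono (pow_le_iSup φ P₁ Λ hP₁ N)).trans ?_
        rw [Submodule.map_iSup]
        refine iSup_le fun s => ?_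
        choose o ho using fun b => (s b).2
        rintro _ ⟨x, hx, rfl⟩
        refine Submodule.mem_iSup_of_mem (∏ b, (s b : k))
          (Submodule.mem_iSup_of_mem ⟨o, Finset.prod_congr rfl fun b _ => ho b⟩ ?_)
        rw [SetLike.mem_coe, Module.End.mem_maxGenEigenspace] at hx
        rw [Module.End.mem_maxGenEigenspace]
        obtain ⟨n, hn⟩ := hx
        refine ⟨n, ?_⟩
        have key : ∀ (n : ℕ) (z : A),
            π (((φ.toLinearMap - (∏ b, (s b : k)) • 1 : Module.End k A) ^ n) z) =
              ((φB.toLinearMap - (∏ b, (s b : k)) • 1 : Module.End k B) ^ n) (π z) := by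
          intro n
          induction n with
          | zero => intro z; rfl
          | succ n ih =>
            intro z
            rw [pow_succ, pow_succ, Module.End.mul_apply, Module.End.mul_apply, ih]
            congr 1
            simp [hπφ]
        show ((φB.toLinearMap - (∏ b, (s b : k)) • 1 : Module.End k B) ^ n) (π x) = 0
        rw [← key, hn, map_zero]
      obtain ⟨s, hs⟩ := eigen_mem φB hle ⟨a, ha, hap⟩ hp0 hpμ
      exact ⟨s, hs.symm⟩
    have hsplit : T.charpoly.Splits := IsAlgClosed.splits _
    have hcard : T.charpoly.roots.toList.length = d := by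
      rw [Multiset.length_toList, ← Polynomial.Splits.natDegree_eq_card_roots hsplit,
        LinearMap.charpoly_natDegree, Module.finrank_fin_fun]
    choose sr hsr using fun a : Fin T.charpoly.roots.toList.length =>
      hroots (T.charpoly.roots.toList.get a) (Multiset.mem_toList.1 (List.get_mem _ _))
    have hsum : h.ofConv f = ∑ a : Fin d, ∏ b, (sr (Fin.cast hcard.symm a) b).elim 1 lam := by
      rw [hf, show LinearMap.trace k (Fin d → k) T = T.charpoly.roots.sum from
        Module.End.trace_eq_sum_roots_charpoly_of_splits hsplit, ← Multiset.sum_toList, ← Fin.sum_univ_getElem]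
      exact Fintype.sum_equiv (finCongr hcard) _ _ fun a => hsr a
    have key := hQ lam fun a => sr (Fin.cast hcard.symm a)
    rw [← hsum, ← Polynomial.map_map, ← hqP, Polynomial.map_map] at key
    rw [← Polynomial.eval_map]
    exact key
  -- finiteness
  let C₁ : Subalgebra k B := ψ.range
  haveI : Algebra.FiniteType k C₁ :=
    Algebra.FiniteType.of_surjective ψ.rangeRestrict (AlgHom.rangeRestrict_surjective ψ)
  haveI : Algebra.FiniteType C₁ B := Algebra.FiniteType.of_restrictScalars_finiteType k C₁ B
  haveI : IsNoetherianRing C₁ := Algebra.FiniteType.isNoetherianRing k C₁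
  haveI : Module.Finite C₁ (integralClosure C₁ B) :=
    CAlg1.Nag.finite_integralClosure_reduced (CAlg1.Nag.isNagata_of_finiteType (R := k) (S := C₁) (isNagata_field k))
  have hmem : chars k B ⊆ (integralClosure C₁ B : Set B) := by
    rintro f ⟨⟨d, c⟩, rfl⟩
    obtain ⟨q, hqm, hq0⟩ := hint d c _ fun h => chr_eq d c h
    refine ⟨q.map ψ.rangeRestrict.toRingHom, hqm.map _, ?_⟩
    rw [Polynomial.eval₂_map]
    exact hq0
  have hfg : (Submodule.span C₁ (chars k B)).FG := by
    refine Submodule.FG.of_le ?_ (Submodule.span_le.2 hmem : _ ≤ (integralClosure C₁ B).toSubmodule)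
    exact (Submodule.fg_top _).1 Module.Finite.fg_top
  obtain ⟨F, hF, hFs⟩ := (Submodule.fg_span_iff_fg_span_finset_subset _).1 hfg
  refine ⟨F, hF, fun x hx => ?_⟩
  have hC : C₁ ≤ C₀ := by
    show ψ.range ≤ C₀
    rw [← Algebra.adjoin_range_eq_range_aeval, Algebra.adjoin_le_iff]
    rintro _ ⟨r, rfl⟩
    exact heC _
  have h1 : x ∈ Submodule.span C₁ (↑F : Set B) := by
    rw [← hFs]
    exact Submodule.span_le_restrictScalars k C₁ _ hx
  clear hx
  induction h1 using Submodule.span_induction with
  | mem y hy => exact Submodule.subset_span hy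
  | zero => exact zero_mem _
  | add y z _ _ hy hz => exact add_mem hy hz
  | smul c y _ hy => exact Submodule.smul_mem _ (⟨(c : B), hC c.2⟩ : C₀) hy

end Groth.Agent.Char34
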