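import Groth.Agent.Char34.Basic
import Mathlib.LinearAlgebra.Matrix.Kronecker
import Mathlib.RingTheory.MvPolynomial.Symmetric.FundamentalTheorem
import Mathlib.RingTheory.MvPolynomial.Symmetric.NewtonIdentities

/-!
Traces of powers of a point, and symmetric functions of its eigenvalues, are combinations of
characters.
-/

set_option autoImplicit false

universe u w

open TensorProduct Groth.Agent.Comod33 Groth.Agent.Comod33.Conn

open scoped Kronecker

noncomputable section

namespace Groth.Agent.Char34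

variable {k : Type u} [Field k] [IsAlgClosed k] [CharZero k] {A : Type u} [CommRing A] [HopfAlgebra k A]
  [Algebra.FiniteType k A]

/-- matrix form of `exists_trace_comp` -/
theorem exists_trace_mul {ι : Type w} [Fintype ι] [DecidableEq ι] {c : ι → ι → A}
    (hc : Mat.IsRep (k := k) c) (T : Matrix ι ι k) (hT : ∀ g : A →ₐ[k] k, Commute T (Mat.ev g c)) :
    ∃ a ∈ Submodule.span k (chars k A), ∀ g : Pt k A, g.ofConv a = (Mat.ev g.ofConv c * T).trace := by
  letI := Mat.comod hc
  have hact : ∀ g : Pt k A, actHom k A (ι → k) g = Matrix.toLinAlgEquiv' (Mat.ev g.ofConv c) := fun g => by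
    refine (Pi.basisFun k ι).ext fun j => funext fun i => ?_
    rw [Pi.basisFun_apply, Matrix.toLinAlgEquiv'_apply, Matrix.mulVec_single_one]
    show (TensorProduct.rid k (ι → k)) (g.ofConv.toLinearMap.lTensor (ι → k)
      (Mat.repCoact (k := k) c (Pi.single j 1))) i = _
    rw [Mat.repCoact_single]
    simp [Finset.sum_apply, Pi.single_apply, Mat.ev_apply, Matrix.col]
  obtain ⟨a, ha, he⟩ := exists_trace_comp (k := k) (A := A) (ι → k) (Matrix.toLinAlgEquiv' T) fun g => by
    rw [hact]; exact (hT g.ofConv).map _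
  refine ⟨a, ha, fun g => ?_⟩
  rw [he g, hact, ← Module.End.mul_eq_comp, ← map_mul]
  rw [LinearMap.trace_eq_matrix_trace k (Pi.basisFun k ι), LinearMap.toMatrix_eq_toMatrix']
  exact congrArg Matrix.trace (LinearMap.toMatrix'_toLin' _)

/-- a representation with an equivariant endomorphism whose partial trace is a power of `c` -/
theorem exists_partial (d : ℕ) {c : Fin d → Fin d → A} (hc : Mat.IsRep (k := k) c) : ∀ r : ℕ,
    ∃ (ι : Type) (_ : Fintype ι) (_ : DecidableEq ι) (e : ι → ι → A) (_ : Mat.IsRep (k := k) e)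
      (T : Matrix (ι × Fin d) (ι × Fin d) k),
      ∀ g : A →ₐ[k] k, Commute T (Mat.ev g e ⊗ₖ Mat.ev g c) ∧
        ∀ i j, ∑ w, ((Mat.ev g e ⊗ₖ Mat.ev g c) * T) (w, i) (w, j) = (Mat.ev g c ^ (r + 1)) i j
  | 0 => by
    refine ⟨Unit, inferInstance, inferInstance, fun _ _ => 1, ⟨fun _ _ => ?_, fun _ _ => ?_⟩, 1, fun g => ⟨Commute.one_left _, fun i j => ?_⟩⟩
    · simp [Algebra.TensorProduct.one_def]
    · simp
    · simp [Mat.ev_apply]
  | r + 1 => by
    obtain ⟨ι, hι, hι', e, he, T, hT⟩ := exists_partial d hc r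
    let σ : (ι × Fin d) × Fin d ≃ (ι × Fin d) × Fin d :=
      ⟨fun p => ((p.1.1, p.2), p.1.2), fun p => ((p.1.1, p.2), p.1.2), fun _ => rfl, fun _ => rfl⟩
    refine ⟨ι × Fin d, inferInstance, inferInstance, fun p q => e p.1 q.1 * c p.2 q.2, Mat.isRep_mul he hc,
      (T ⊗ₖ (1 : Matrix (Fin d) (Fin d) k)).submatrix id σ, fun g => ?_⟩
    set M := Mat.ev g c with hM
    set E := Mat.ev g e with hE
    have hev : Mat.ev g (fun p q : ι × Fin d => e p.1 q.1 * c p.2 q.2) = E ⊗ₖ M := by
      ext ⟨a, b⟩ ⟨a', b'⟩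
      simp [Mat.ev_apply, hE, hM]
    rw [hev]
    have hσ : ((E ⊗ₖ M) ⊗ₖ M).submatrix σ σ = (E ⊗ₖ M) ⊗ₖ M := by
      ext ⟨⟨a, b⟩, b'⟩ ⟨⟨a', b''⟩, b'''⟩
      simp [σ]
      ring
    have h3 : ((E ⊗ₖ M) ⊗ₖ M) * (T ⊗ₖ (1 : Matrix (Fin d) (Fin d) k)) = ((E ⊗ₖ M) * T) ⊗ₖ M := by
      rw [← Matrix.mul_kronecker_mul, mul_one]
    have h4 : (T ⊗ₖ (1 : Matrix (Fin d) (Fin d) k)) * ((E ⊗ₖ M) ⊗ₖ M) = (T * (E ⊗ₖ M)) ⊗ₖ M := by
      rw [← Matrix.mul_kronecker_mul, one_mul]
    constructor
    · show _ * _ = _ * _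
      conv_lhs => rw [← hσ, Matrix.submatrix_mul_equiv]
      rw [h4, (hT g).1.eq, ← h3]
      rw [show ((E ⊗ₖ M) ⊗ₖ M) * (T ⊗ₖ (1 : Matrix (Fin d) (Fin d) k)).submatrix id σ =
        (((E ⊗ₖ M) ⊗ₖ M) * (T ⊗ₖ (1 : Matrix (Fin d) (Fin d) k))).submatrix id σ from by
          ext p q; simp [Matrix.mul_apply]]
    · intro i j
      rw [show ((E ⊗ₖ M) ⊗ₖ M) * (T ⊗ₖ (1 : Matrix (Fin d) (Fin d) k)).submatrix id σ =
        (((E ⊗ₖ M) ⊗ₖ M) * (T ⊗ₖ (1 : Matrix (Fin d) (Fin d) k))).submatrix id σ from by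
          ext p q; simp [Matrix.mul_apply], h3, Fintype.sum_prod_type, Finset.sum_comm, pow_succ' M,
        Matrix.mul_apply]
      refine Finset.sum_congr rfl fun a _ => ?_
      rw [← (hT g).2 a j, Finset.mul_sum]
      exact Finset.sum_congr rfl fun w _ => by simp [σ, mul_comm, hE, hM]

/-- the trace of a power of a point on a finite comodule is a combination of characters -/
theorem exists_trace_pow (V : Type w) [AddCommGroup V] [Module k V] [HopfRep.Comod k A V]
    [FiniteDimensional k V] (r : ℕ) :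
    ∃ a ∈ Submodule.span k (chars k A), ∀ g : Pt k A,
      g.ofConv a = LinearMap.trace k V (actHom k A V g ^ (r + 1)) := by
  classical
  let b := Module.finBasis k V
  obtain ⟨ι, hι, hι', e, he, T, hT⟩ := exists_partial _ (Mat.isRep_mc (A := A) b) r
  have hev : ∀ g : A →ₐ[k] k, Mat.ev g (fun p q : ι × Fin _ => e p.1 q.1 * Mat.mc (A := A) b p.2 q.2) =
      Mat.ev g e ⊗ₖ Mat.ev g (Mat.mc (A := A) b) := fun g => by
    ext ⟨a, i⟩ ⟨a', i'⟩
    simp [Mat.ev_apply]
  obtain ⟨a, ha, hae⟩ := exists_trace_mul (Mat.isRep_mul he (Mat.isRep_mc (A := A) b)) T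
    fun g => by rw [hev]; exact (hT g).1
  refine ⟨a, ha, fun g => ?_⟩
  have hM : Mat.ev g.ofConv (Mat.mc (A := A) b) = LinearMap.toMatrix b b (actHom k A V g) := by
    ext i j
    rw [Mat.ev_apply, Mat.mc, apply_cf, LinearMap.toMatrix_apply]
    rfl
  rw [hae g, hev, LinearMap.trace_eq_matrix_trace k b, ← LinearMap.toMatrix_pow, ← hM, Matrix.trace, Matrix.trace,
    Fintype.sum_prod_type, Finset.sum_comm]
  exact Finset.sum_congr rfl fun i _ => (hT g.ofConv).2 i i

omit [IsAlgClosed k] in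
/-- symmetric polynomials are polynomials in the first power sums -/
theorem mem_adjoin_psum (D : ℕ) {p : MvPolynomial (Fin D) k} (hp : p.IsSymmetric) :
    p ∈ Algebra.adjoin k (Set.range fun r : Fin D => MvPolynomial.psum (Fin D) k (r + 1)) := by
  classical
  let S := Algebra.adjoin k (Set.range fun r : Fin D => MvPolynomial.psum (Fin D) k (r + 1))
  have hes : ∀ n, n ≤ D → MvPolynomial.esymm (Fin D) k n ∈ S := by
    intro n
    induction n using Nat.strong_induction_on with
    | _ n ih =>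
      intro hnD
      obtain rfl | hn := Nat.eq_zero_or_pos n
      · rw [MvPolynomial.esymm_zero]; exact one_mem _
      have h := MvPolynomial.mul_esymm_eq_sum (Fin D) k n
      have hm : (n : MvPolynomial (Fin D) k) * MvPolynomial.esymm (Fin D) k n ∈ S := by
        rw [h]
        refine mul_mem (pow_mem (neg_mem (one_mem _)) _) (sum_mem fun a ha => ?_)
        rw [Finset.mem_filter, Finset.HasAntidiagonal.mem_antidiagonal] at ha
        refine mul_mem (mul_mem (pow_mem (neg_mem (one_mem _)) _) (ih _ ha.2 (by omega))) ?_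
        exact Algebra.subset_adjoin ⟨⟨a.2 - 1, by omega⟩, congrArg (MvPolynomial.psum (Fin D) k) (by show a.2 - 1 + 1 = a.2; omega)⟩
      have hn0 : ((n : ℕ) : k) ≠ 0 := Nat.cast_ne_zero.2 hn.ne'
      have := S.smul_mem hm ((n : k)⁻¹)
      rwa [Algebra.smul_def, ← map_natCast (algebraMap k (MvPolynomial (Fin D) k)), ← mul_assoc, ← map_mul,
        inv_mul_cancel₀ hn0, map_one, one_mul] at this
  obtain ⟨q, hq⟩ := MvPolynomial.esymmAlgHom_fin_surjective k (le_refl D)
    ⟨p, (MvPolynomial.mem_symmetricSubalgebra p).2 hp⟩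
  have hq' := congrArg Subtype.val hq
  rw [MvPolynomial.esymmAlgHom_apply] at hq'
  rw [show p = MvPolynomial.aeval (fun i : Fin D => MvPolynomial.esymm (Fin D) k (i + 1)) q from hq'.symm]
  suffices (MvPolynomial.aeval (fun i : Fin D => MvPolynomial.esymm (Fin D) k (i + 1))).range ≤ S from
    this ⟨q, rfl⟩
  rw [← Algebra.adjoin_range_eq_range_aeval, Algebra.adjoin_le_iff]
  rintro _ ⟨i, rfl⟩
  exact hes _ i.2

/-- the eigenvalues of a point with multiplicity -/
theorem exists_eigen (V : Type w) [AddCommGroup V] [Module k V] [HopfRep.Comod k A V]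
    [FiniteDimensional k V] (g : Pt k A) :
    ∃ lam : Fin (Module.finrank k V) → k,
      (∀ r : ℕ, LinearMap.trace k V (actHom k A V g ^ r) = ∑ i, lam i ^ r) ∧
      (∀ μ, (actHom k A V g).maxGenEigenspace μ ≠ ⊥ → ∃ i, lam i = μ) := by
  classical
  set f := actHom k A V g
  have hfin : {μ | f.maxGenEigenspace μ ≠ ⊥}.Finite :=
    WellFoundedGT.finite_ne_bot_of_iSupIndep f.independent_maxGenEigenspace
  have hds := DirectSum.isInternal_submodule_of_iSupIndep_of_iSup_eq_top
    f.independent_maxGenEigenspace (Module.End.iSup_maxGenEigenspace_eq_top f)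
  have htr : ∀ r : ℕ, LinearMap.trace k V (f ^ r) =
      ∑ μ ∈ hfin.toFinset, μ ^ r * Module.finrank k (f.maxGenEigenspace μ) := by
    intro r
    have hmaps : ∀ μ, Set.MapsTo (f ^ r) ↑(f.maxGenEigenspace μ) ↑(f.maxGenEigenspace μ) :=
      fun μ => f.mapsTo_maxGenEigenspace_of_comm (Commute.pow_right rfl r) μ
    rw [LinearMap.trace_eq_sum_trace_restrict' hds hfin hmaps]
    refine Finset.sum_congr rfl fun μ _ => ?_
    have hf' := f.mapsTo_maxGenEigenspace_of_comm (Commute.refl f) μ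
    rw [show (f ^ r).restrict (hmaps μ) = (f.restrict hf') ^ r from (Module.End.pow_restrict r hf').symm]
    clear hmaps
    induction r with
    | zero => simp [LinearMap.trace_one]
    | succ r ih =>
      rw [pow_succ, Module.End.mul_eq_comp, LinearMap.trace_comp_eq_mul_of_commute_of_isNilpotent μ
        (Commute.pow_left rfl r) (f.isNilpotent_restrict_maxGenEigenspace_sub_algebraMap μ), ih, pow_succ]
      ring
  let J := Σ μ : hfin.toFinset, Fin (Module.finrank k (f.maxGenEigenspace μ.1))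
  have hcard : Fintype.card J = Module.finrank k V := by
    have h := htr 0
    simp only [pow_zero, one_mul, LinearMap.trace_one] at h
    rw [← Nat.cast_sum] at h
    rw [Fintype.card_sigma]
    simp only [Fintype.card_fin]
    rw [Finset.sum_coe_sort hfin.toFinset (fun μ => Module.finrank k (f.maxGenEigenspace μ))]
    exact_mod_cast h.symm
  let eJ := (Fintype.equivFinOfCardEq hcard).symm
  refine ⟨fun i => (eJ i).1.1, fun r => ?_, fun μ hμ => ?_⟩
  · rw [htr r, Fintype.sum_equiv eJ _ (fun p : J => p.1.1 ^ r) fun _ => rfl, Fintype.sum_sigma]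
    simp only [Finset.sum_const, Finset.card_univ, Fintype.card_fin, nsmul_eq_mul]
    rw [← Finset.sum_coe_sort hfin.toFinset]
    exact Finset.sum_congr rfl fun μ _ => mul_comm _ _
  · have hpos : 0 < Module.finrank k (f.maxGenEigenspace μ) := by
      haveI := Submodule.nontrivial_iff_ne_bot.2 hμ
      exact Module.finrank_pos
    exact ⟨eJ.symm ⟨⟨μ, hfin.mem_toFinset.2 hμ⟩, ⟨0, hpos⟩⟩, by simp⟩

end Groth.Agent.Char34
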