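import Groth.Agent.Char34.Basic
import Groth.Agent.Comod33.PointJordan
import Groth.Agent.Comod33.Faithful

/-!
Semisimple rational points of an affine group.
-/

set_option autoImplicit false

universe u w

open TensorProduct Groth.Agent.Comod33 Groth.Agent.Comod33.Conn Polynomial

noncomputable section

namespace Groth.Agent.Char34

variable {k : Type u} [Field k] {A : Type u} [CommRing A] [HopfAlgebra k A]

/-- a point acting semisimply in every finite dimensional representation -/
def IsSS (g : Pt k A) : Prop :=
  ∀ (V : Type u) [AddCommGroup V] [Module k V] [HopfRep.Comod k A V], Module.Finite k V →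
    Module.End.IsSemisimple (actHom k A V g)

theorem cf_act (g : Pt k A) {V : Type w} [AddCommGroup V] [Module k V] [HopfRep.Comod k A V]
    (φ : V →ₗ[k] k) (v : V) :
    cf (A := A) φ (actHom k A V g v) = HopfRep.Comod.act k A A g.ofConv (cf (A := A) φ v) :=
  IsComodHom.dact (isComodHom_cf φ) g.ofConv.toLinearMap v

theorem isSS_of_regular [PerfectField k] {g : A →ₐ[k] k}
    (hg : Module.End.IsSemisimple (HopfRep.Comod.act k A A g)) : IsSS (WithConv.toConv g) := by
  intro V _ _ _ hV
  let b := Module.finBasis k V
  let U : Submodule k A := ⨆ i, LinearMap.range (cf (A := A) (b.coord i))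
  have hU : HopfRep.IsSubcomod (k := k) (A := A) U :=
    isSubcomod_iSup _ fun i => isSubcomod_range (isComodHom_cf (b.coord i))
  haveI : Module.Finite k U := Submodule.finite_iSup fun i => LinearMap.range (cf (A := A) (b.coord i))
  have hst : U ∈ Module.End.invtSubmodule (HopfRep.Comod.act k A A g) :=
    fun x hx => (isSubcomod_iff U).1 hU g.toLinearMap x hx
  let S : Module.End k U := (HopfRep.Comod.act k A A g).restrict hst
  have hS : S.IsSemisimple := hg.restrict hst
  refine Module.End.isSemisimple_of_squarefree_aeval_eq_zero hS.minpoly_squarefree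
    (LinearMap.ext fun v => b.ext_elem fun i => ?_)
  let c : V →ₗ[k] U := (cf (A := A) (b.coord i)).codRestrict U fun x =>
    Submodule.mem_iSup_of_mem i ⟨x, rfl⟩
  have hc : c ∘ₗ actHom k A V (WithConv.toConv g) = S ∘ₗ c :=
    LinearMap.ext fun x => Subtype.ext (cf_act (WithConv.toConv g) _ x)
  have h1 := aeval_intertwine hc (minpoly k S) v
  rw [show aeval S (minpoly k S) = (0 : Module.End k U) from minpoly.aeval k S, LinearMap.zero_apply] at h1
  rw [LinearMap.zero_apply, map_zero, Finsupp.zero_apply, ← Module.Basis.coord_apply, ← counit_cf (A := A) (b.coord i)]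
  exact (congrArg (fun x : U => CoalgebraStruct.counit (R := k) (x : A)) h1).trans (map_zero _)

theorem regular_of_isSS {g : Pt k A} (hg : IsSS g) :
    Module.End.IsSemisimple (HopfRep.Comod.act k A A g.ofConv) := by
  let f := HopfRep.Comod.act k A A g.ofConv
  have hst : ∀ a : A, Comod33.gen (k := k) (A := A) a ∈ Module.End.invtSubmodule f := fun a x hx =>
    (isSubcomod_iff _).1 (isSubcomod_gen a) g.ofConv.toLinearMap x hx
  refine isSemisimpleModule_of_isSemisimpleModule_submodule'
    (p := fun a : A => Module.AEval.mapSubmodule k A f ⟨Comod33.gen (k := k) (A := A) a, hst a⟩) (fun a => ?_) ?_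
  · letI := ComodSub.Comod.restr (HopfRep.Comod.regular k A) (Comod33.gen (k := k) (A := A) a) (isSubcomod_gen a)
    have h := hg (Comod33.gen (k := k) (A := A) a) (finite_gen a)
    have e : actHom k A (Comod33.gen (k := k) (A := A) a) g = f.restrict (p := Comod33.gen (k := k) (A := A) a) (q := Comod33.gen (k := k) (A := A) a) (hst a) := by
      refine LinearMap.ext fun x => Subtype.ext ?_
      exact (IsComodHom.dact (ComodSub.isComodHom_subtype (HopfRep.Comod.regular k A) _ (isSubcomod_gen a))
        g.ofConv.toLinearMap x)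
    rw [e] at h
    exact (Module.AEval.restrict_equiv_mapSubmodule f _ (hst a)).isSemisimpleModule_iff.1 h
  · refine eq_top_iff.2 fun x _ => ?_
    refine Submodule.mem_iSup_of_mem ((Module.AEval'.of f).symm x) ?_
    rw [Module.AEval.mem_mapSubmodule_apply]
    exact mem_gen _

theorem IsSS.conj [PerfectField k] {g : Pt k A} (hg : IsSS g) (x : Pt k A) : IsSS (x * g * x⁻¹) := by
  intro V _ _ _ hV
  have h := hg V hV
  refine Module.End.isSemisimple_of_squarefree_aeval_eq_zero h.minpoly_squarefree ?_
  let u : (Module.End k V)ˣ := Units.map (actHom k A V) (toUnits x)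
  have e : actHom k A V (x * g * x⁻¹) = MulSemiringAction.toAlgHom k (Module.End k V) (ConjAct.toConjAct u)
      (actHom k A V g) := by
    simp only [map_mul]
    rfl
  rw [e, aeval_algHom_apply, minpoly.aeval, map_zero]

theorem trace_conj {V : Type u} [AddCommGroup V] [Module k V] [HopfRep.Comod k A V] (x g : Pt k A) :
    LinearMap.trace k V (actHom k A V (x * g * x⁻¹)) = LinearMap.trace k V (actHom k A V g) := by
  rw [map_mul (actHom k A V), map_mul (actHom k A V), LinearMap.trace_mul_comm, ← mul_assoc, ← map_mul, inv_mul_cancel, map_one, one_mul]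

/-- the semisimple part is semisimple and has the same characters -/
theorem exists_ss_part [PerfectField k] (g : Pt k A) : ∃ s : Pt k A, IsSS s ∧
    ∀ (V : Type u) [AddCommGroup V] [Module k V] [HopfRep.Comod k A V], Module.Finite k V →
      IsMulSS (actHom k A V g) (actHom k A V s) ∧
      LinearMap.trace k V (actHom k A V g) = LinearMap.trace k V (actHom k A V s) := by
  obtain ⟨gs, -, h⟩ := exists_point_semisimplePart g.ofConv
  refine ⟨WithConv.toConv gs, fun V _ _ _ hV => (h V hV).1, fun V _ _ _ hV => ⟨h V hV, ?_⟩⟩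
  obtain ⟨-, u, hu, hc, he⟩ := h V hV
  have hn : IsNilpotent (HopfRep.Comod.act k A V gs * (u - 1)) :=
    ((hc.sub_right (Commute.one_right _))).isNilpotent_mul_left hu
  have := (LinearMap.isNilpotent_trace_of_isNilpotent hn).eq_zero
  rw [mul_sub, mul_one, he, map_sub, sub_eq_zero] at this
  exact this

/-- semisimplicity is seen in a faithful representation -/
theorem isSS_of_faithful [PerfectField k] {V : Type u} [AddCommGroup V] [Module k V] [HopfRep.Comod k A V]
    [Module.Finite k V] (hf : Function.Injective (actHom k A V)) {g : Pt k A}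
    (hg : Module.End.IsSemisimple (actHom k A V g)) : IsSS g := by
  obtain ⟨s, hs, h⟩ := exists_ss_part g
  have h1 : IsMulSS (actHom k A V g) (actHom k A V g) :=
    ⟨hg, 1, by simp, Commute.one_right _, mul_one _⟩
  rwa [show g = s from hf (h1.eq (h V inferInstance).1)]

theorem trace_eq_of_forall_fin {g g' : Pt k A}
    (htr : ∀ (d : ℕ) (c : HopfRep.Comod k A (Fin d → k)),
      LinearMap.trace k (Fin d → k) (@HopfRep.Comod.act k A _ _ _ (Fin d → k) _ _ c g.ofConv) =
        LinearMap.trace k (Fin d → k) (@HopfRep.Comod.act k A _ _ _ (Fin d → k) _ _ c g'.ofConv))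
    (V : Type w) [AddCommGroup V] [Module k V] [HopfRep.Comod k A V] [FiniteDimensional k V] :
    LinearMap.trace k V (actHom k A V g) = LinearMap.trace k V (actHom k A V g') := by
  obtain ⟨a, ⟨⟨d, c⟩, rfl⟩, h⟩ := exists_chr (k := k) (A := A) V
  rw [← h g, ← h g', chr_eq, chr_eq]
  exact htr d c

/-- a finite subcomodule of the coordinate ring which sees infinitesimal points -/
theorem exists_generating (k A : Type u) [Field k] [CommRing A] [HopfAlgebra k A] [Algebra.FiniteType k A] :
    ∃ (W : Submodule k A) (hW : HopfRep.IsSubcomod (k := k) (A := A) W), Module.Finite k W ∧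
      (letI := ComodSub.Comod.restr (HopfRep.Comod.regular k A) W hW
       Function.Injective (actHom k A W) ∧ ∀ δ : A →ₗ[k] k, δ 1 = 0 →
        (∀ a b, δ (a * b) = CoalgebraStruct.counit (R := k) a * δ b + δ a * CoalgebraStruct.counit (R := k) b) →
        (∀ (φ : W →ₗ[k] k) (w : W), δ (cf (A := A) φ w) = 0) → δ = 0) := by
  classical
  obtain ⟨s, hs⟩ := ‹Algebra.FiniteType k A›.out
  obtain ⟨W, hfin, hle, hW⟩ := exists_finite_subcomod_le (k := k) (A := A) (Submodule.span k (s : Set A))
  refine ⟨W, hW, hfin, ?_⟩
  letI := ComodSub.Comod.restr (HopfRep.Comod.regular k A) W hW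
  have hι : Hoch.IsComodHom A W.subtype := ComodSub.isComodHom_subtype (HopfRep.Comod.regular k A) W hW
  have hcf : ∀ a (ha : a ∈ s), cf (A := A) ((CoalgebraStruct.counit (R := k) (A := A)) ∘ₗ W.subtype)
      (⟨a, hle (Submodule.subset_span ha)⟩ : W) = a := fun a ha => by
    rw [cf_apply, ← lc_rTensor, ← LinearMap.comp_apply (W.subtype.rTensor A),
      show W.subtype.rTensor A ∘ₗ HopfRep.Comod.coact (k := k) (A := A) =
        HopfRep.Comod.coact (k := k) (A := A) ∘ₗ W.subtype from hι.symm, LinearMap.comp_apply,
      ← lid_rTensor_eq_lc]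
    show TensorProduct.lid k A (CoalgebraStruct.counit.rTensor A (CoalgebraStruct.comul (R := k) a)) = a
    rw [Coalgebra.rTensor_counit_comul, TensorProduct.lid_tmul, one_smul]
  refine ⟨fun g h hgh => ?_, fun δ h1 hmul h0 => ?_⟩
  · refine WithConv.ofConv_injective (AlgHom.ext_of_adjoin_eq_top hs fun a ha => ?_)
    rw [← hcf a ha, apply_cf, apply_cf, hgh]
  · refine LinearMap.ext fun a => ?_
    have : a ∈ Algebra.adjoin k (s : Set A) := hs ▸ trivial
    induction this using Algebra.adjoin_induction with
    | mem x hx => rw [← hcf x hx]; exact h0 _ _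
    | algebraMap r => rw [Algebra.algebraMap_eq_smul_one, map_smul, h1, smul_zero]; rfl
    | add x y _ _ hx hy => rw [map_add, hx, hy]; simp
    | mul x y _ _ hx hy => rw [hmul, hx, hy]; simp

end Groth.Agent.Char34
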