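import Groth.Agent.Char34.Component
import Groth.Agent.Char34.Semisimple
import Groth.Agent.GIT36.LinRedChar0.Alg
import Groth.Agent.Comod33.UnipotentBC

/-!
A group with a faithful semisimple representation is linearly reductive.
-/

set_option autoImplicit false
set_option linter.style.haveILetI false

universe u

open TensorProduct WithConv Groth.Agent.Comod33 Groth.Agent.Comod33.Conn

noncomputable section

namespace Groth.Agent.Char34

variable {k : Type u} [Field k] [IsAlgClosed k] [CharZero k] {A : Type u} [CommRing A] [HopfAlgebra k A]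
  [Algebra.FiniteType k A]

/-- a vector fixed by all points is fixed -/
theorem mem_fixedPts_of_forall [IsReduced A] {X : Type u} [AddCommGroup X] [Module k X] [HopfRep.Comod k A X]
    {v : X} (h : ∀ g : Pt k A, actHom k A X g v = v) : v ∈ HopfRep.fixedPts k A X := by
  show HopfRep.Comod.coact (k := k) (A := A) v = v ⊗ₜ[k] (1 : A)
  refine eq_of_lc fun φ => Conn.eq_zero_of_forall_point (k := k) (fun g => ?_) |> sub_eq_zero.1
  rw [map_sub, ← cf_apply, apply_cf, h g, lc_tmul, map_smul, map_one, smul_eq_mul, mul_one, sub_self]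

/-- the identity component of a group with a faithful semisimple representation has trivial radical -/
theorem isLinearlyReductive_of_faithful (V : Type u) [AddCommGroup V] [Module k V] [HopfRep.Comod k A V]
    [Module.Finite k V] (hss : HopfRep.IsSemisimpleComod k A V) (hf : Function.Injective (actHom k A V)) :
    HopfRep.IsLinearlyReductive k A := by
  classical
  haveI : IsNoetherianRing A := Algebra.FiniteType.isNoetherianRing k A
  haveI : IsReduced A := Aug.isReduced_of_charZero (k := k)
  obtain ⟨e, he, hε, hmin, hI⟩ := IdComp.exists_idem k A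
  obtain ⟨G₀, hG₀, hnorm, hfin⟩ := exists_component he hε hmin
  haveI := hI
  let Q := A ⧸ Ideal.span {1 - e}
  haveI : Algebra.FiniteType k Q :=
    Algebra.FiniteType.of_surjective (Ideal.Quotient.mkₐ k _) (Ideal.Quotient.mkₐ_surjective k _)
  haveI : IsReduced Q := Aug.isReduced_of_charZero (k := k)
  let π := Bialgebra.Quotient.mkBialgHom (R := k) (Ideal.span {1 - e})
  have hπ : Function.Surjective π := Ideal.Quotient.mk_surjective
  have he1 : Ideal.Quotient.mk (Ideal.span {1 - e}) e = 1 := by
    rw [← (Ideal.Quotient.mk (Ideal.span {1 - e})).map_one, Ideal.Quotient.eq, Ideal.mem_span_singleton]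
    exact ⟨-1, by ring⟩
  have hconn : ∀ x : Q, IsIdempotentElem x → x = 0 ∨ x = 1 := by
    intro x hx
    obtain ⟨h, rfl⟩ := Ideal.Quotient.mk_surjective x
    obtain ⟨a, ha⟩ := Ideal.mem_span_singleton'.1 (Ideal.Quotient.eq.1 ((map_mul _ h h).trans hx.eq))
    have hi : IsIdempotentElem (h * e) := by
      show h * e * (h * e) = h * e
      linear_combination (-e ^ 2) * ha + (h - a * e) * he.eq
    rcases IsIdempotentElem.iff_eq_zero_or_one.1 (hi.map (Bialgebra.counitAlgHom k A)) with h0 | h1
    · left
      have h2 := hmin _ hi.one_sub (show Bialgebra.counitAlgHom k A (1 - h * e) = 1 by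
        rw [map_sub, map_one, h0, sub_zero])
      have h3 : h * e = 0 := by linear_combination (-1 : A) * h2 - h * he.eq
      rw [← mul_one (Ideal.Quotient.mk _ h), ← he1, ← map_mul, h3, map_zero]
    · right
      have h2 := hmin _ hi h1
      have h3 : h * e = e := by linear_combination h2 - h * he.eq
      rw [← mul_one (Ideal.Quotient.mk _ h), ← he1, ← map_mul, h3]
  haveI : IsDomain Q := Units.isDomain k hconn
  -- restriction of representations to the identity component
  let res : Pt k Q →* Pt k A :=
    { toFun := fun g => toConv (g.ofConv.comp (π : A →ₐ[k] Q))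
      map_one' := ofConv_injective (AlgHom.ext fun a => by
        show algebraMap k k (CoalgebraStruct.counit (R := k) (π a)) = _
        rw [CoalgHomClass.counit_comp_apply]; rfl)
      map_mul' := fun g h => ofConv_injective (AlgHom.convMul_comp_bialgHom_distrib g h π) }
  have hres : ∀ x : Pt k A, x ∈ G₀ ↔ ∃ g, res g = x := by
    intro x
    constructor
    · intro hx
      have hle : ∀ a ∈ Ideal.span {1 - e}, x.ofConv a = 0 := by
        intro a ha
        obtain ⟨c, rfl⟩ := Ideal.mem_span_singleton'.1 ha
        rw [map_mul, map_sub, map_one, (hG₀ x).1 hx, sub_self, mul_zero]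
      exact ⟨toConv (Ideal.Quotient.liftₐ _ x.ofConv hle), ofConv_injective (AlgHom.ext fun a => rfl)⟩
    · rintro ⟨g, rfl⟩
      refine (hG₀ _).2 ?_
      show g.ofConv (Ideal.Quotient.mk _ e) = 1
      rw [he1, map_one]
  have hact : ∀ (X : Type u) [AddCommGroup X] [Module k X] (c : HopfRep.Comod k A X) (g : Pt k Q) (v : X),
      @actHom k _ Q _ _ X _ _ (Comod33.push (π : A →ₗc[k] Q) c) g v = @actHom k _ A _ _ X _ _ c (res g) v :=
    fun X _ _ c g v => dact_push (π : A →ₗc[k] Q) c g.ofConv.toLinearMap v
  letI cQ : HopfRep.Comod k Q V := Comod33.push (π : A →ₗc[k] Q) inferInstance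
  -- stable subspaces under the component
  let St : Submodule k V → Prop := fun E => ∀ x ∈ G₀, ∀ v ∈ E, actHom k A V x v ∈ E
  have hrad : ∀ I : Ideal Q, I.IsHopfIdeal k → SGA3.IsNormalHopfIdeal k Q I →
      (∀ [I.IsHopfIdeal k], HopfRep.IsUnipotent k (Q ⧸ I)) → I = RingHom.ker (Bialgebra.counitAlgHom k Q) := by
    intro I hIh hIn hun
    haveI := hIh
    have hun' : HopfRep.IsUnipotent k (Q ⧸ I) := hun
    haveI : Algebra.FiniteType k (Q ⧸ I) :=
      Algebra.FiniteType.of_surjective (Ideal.Quotient.mkₐ k I) (Ideal.Quotient.mkₐ_surjective k I)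
    haveI : IsReduced (Q ⧸ I) := Aug.isReduced_of_charZero (k := k)
    let U : Set (Pt k Q) := {u | ∀ a ∈ I, u.ofConv a = 0}
    have hU : ∀ (x u : Pt k Q), u ∈ U → x * u * x⁻¹ ∈ U := by
      intro x u hu a ha
      have h := hIn k x.ofConv u.ofConv hu a ha
      rw [← ofConv_toConv (Dyn.conv3 k Q x.ofConv u.ofConv _), SGA3a.NormalHopf.toConv_conv3] at h
      exact h
    let F : Submodule k V :=
      { carrier := {v | ∀ u ∈ U, actHom k Q V u v = v}
        add_mem' := fun {p q} hp hq u hu => by rw [map_add, hp u hu, hq u hu]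
        zero_mem' := fun u _ => map_zero _
        smul_mem' := fun c p hp u hu => by rw [map_smul, hp u hu] }
    have hF : ∀ (x : Pt k Q) (v : V), v ∈ F → actHom k Q V x v ∈ F := by
      intro x v hv u hu
      have h := hU x⁻¹ u hu
      rw [inv_inv] at h
      rw [← Module.End.mul_apply, ← map_mul, show u * x = x * (x⁻¹ * u * x) by group, map_mul, Module.End.mul_apply,
        hv _ h]
    -- minimal stable subspaces are fixed
    have hmin' : ∀ E : Submodule k V, E ≠ ⊥ → St E → (∀ E', E' ≤ E → St E' → E' = ⊥ ∨ E' = E) → E ≤ F := by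
      intro E hE0 hES hEmin
      haveI : Nontrivial E := Submodule.nontrivial_iff_ne_bot.2 hE0
      have hsub : HopfRep.IsSubcomod (k := k) (A := Q) E := Conn.isSubcomod_of_forall_point E fun g v hv => by
        rw [hact]; exact hES _ ((hres _).2 ⟨g, rfl⟩) v hv
      letI cE : HopfRep.Comod k Q E := ComodSub.Comod.restr cQ E hsub
      let ψ := Bialgebra.Quotient.mkBialgHom (R := k) I
      obtain ⟨v, hv, hv0⟩ := @exists_fixed_of_isUnipotent k _ (Q ⧸ I) _ _ hun' E _ _
        (Comod33.push (ψ : Q →ₗc[k] Q ⧸ I) cE) _ _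
      have hvF : (v : V) ∈ E ⊓ F := by
        refine ⟨v.2, fun u hu => ?_⟩
        let u' : Q ⧸ I →ₐ[k] k := Ideal.Quotient.liftₐ I u.ofConv hu
        have h1 := dact_push (ψ : Q →ₗc[k] Q ⧸ I) cE u'.toLinearMap v
        have h3 : @actHom k _ (Q ⧸ I) _ _ E _ _ (Comod33.push (ψ : Q →ₗc[k] Q ⧸ I) cE) (toConv u') v = v := by
          show rc u'.toLinearMap (@HopfRep.Comod.coact k (Q ⧸ I) _ _ _ _ E _ _ (Comod33.push (ψ : Q →ₗc[k] Q ⧸ I) cE) v) = v
          rw [show @HopfRep.Comod.coact k (Q ⧸ I) _ _ _ _ E _ _ (Comod33.push (ψ : Q →ₗc[k] Q ⧸ I) cE) v =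
            v ⊗ₜ[k] (1 : Q ⧸ I) from hv, rc_tmul, AlgHom.toLinearMap_apply, map_one, one_smul]
        replace h1 := h3.symm.trans h1
        have h4 := IsComodHom.dact (ComodSub.isComodHom_subtype cQ E hsub) u.ofConv.toLinearMap v
        exact h4.symm.trans (congrArg Subtype.val h1.symm)
      have hEF : St (E ⊓ F) := fun x hx w hw => ⟨hES x hx w hw.1, by
        obtain ⟨g, rfl⟩ := (hres x).1 hx
        rw [← hact]; exact hF g w hw.2⟩
      rcases hEmin _ inf_le_left hEF with h | h
      · rw [h] at hvF
        exact absurd (Subtype.ext ((Submodule.mem_bot k).1 hvF)) hv0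
      · exact h ▸ inf_le_right
    -- the largest stable subspace inside the fixed vectors is everything
    let T : Submodule k V := ⨅ x : Pt k A, F.comap (actHom k A V x)
    have hTG : ∀ x : Pt k A, ∀ v ∈ T, actHom k A V x v ∈ T := fun x v hv => (Submodule.mem_iInf _).2 fun y => by
      rw [Submodule.mem_comap, ← Module.End.mul_apply, ← map_mul]; exact (Submodule.mem_iInf _).1 hv (y * x)
    obtain ⟨M, hM, hc⟩ := hss T (Conn.isSubcomod_of_forall_point T hTG)
    have hMtop : M = ⊥ := by
      by_contra hM0
      obtain ⟨E, ⟨hE0, hES, hEM⟩, hEmin⟩ := (wellFounded_lt (α := Submodule k V)).has_min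
        {E | E ≠ ⊥ ∧ St E ∧ E ≤ M} ⟨M, hM0, fun x _ v hv => (isSubcomod_iff M).1 hM x.ofConv.toLinearMap v hv, le_rfl⟩
      have hEmin' : ∀ E', E' ≤ E → St E' → E' = ⊥ ∨ E' = E := fun E' hle hS => by
        by_contra hne
        push Not at hne
        exact hEmin E' ⟨hne.1, hS, hle.trans hEM⟩ (lt_of_le_of_ne hle hne.2)
      have hET : E ≤ T := by
        refine le_iInf fun x => Submodule.map_le_iff_le_comap.1 ?_
        have hxx : ∀ (y : Pt k A) (v : V), actHom k A V y⁻¹ (actHom k A V y v) = v := fun y v => by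
          rw [← Module.End.mul_apply, ← map_mul, inv_mul_cancel, map_one, Module.End.one_apply]
        have hxx' : ∀ (y : Pt k A) (v : V), actHom k A V y (actHom k A V y⁻¹ v) = v := fun y v => by
          rw [← Module.End.mul_apply, ← map_mul, mul_inv_cancel, map_one, Module.End.one_apply]
        have hconj : ∀ (y : Pt k A) (E' : Submodule k V), St E' → St (E'.map (actHom k A V y)) := by
          rintro y E' hS z hz _ ⟨v, hv, rfl⟩
          have hz' : y⁻¹ * z * y ∈ G₀ := by simpa using hnorm.conj_mem z hz y⁻¹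
          refine ⟨_, hS _ hz' v hv, ?_⟩
          rw [← Module.End.mul_apply, ← map_mul, ← Module.End.mul_apply, ← map_mul,
            show y * (y⁻¹ * z * y) = z * y by group]
        refine hmin' _ ?_ (hconj x E hES) fun E' hle hS => ?_
        · intro h
          refine hE0 ((Submodule.eq_bot_iff _).2 fun v hv => ?_)
          have := (Submodule.eq_bot_iff _).1 h _ (Submodule.mem_map_of_mem hv)
          rw [← hxx x v, this, map_zero]
        · rcases hEmin' (E'.map (actHom k A V x⁻¹)) (by
              rintro _ ⟨v, hv, rfl⟩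
              obtain ⟨w, hw, rfl⟩ := hle hv
              rwa [hxx]) (hconj x⁻¹ E' hS) with h | h
          · left
            refine (Submodule.eq_bot_iff _).2 fun v hv => ?_
            have := (Submodule.eq_bot_iff _).1 h _ (Submodule.mem_map_of_mem hv)
            rw [← hxx' x v, this, map_zero]
          · right
            refine le_antisymm hle ?_
            rintro _ ⟨v, hv, rfl⟩
            obtain ⟨w, hw, rfl⟩ := h.ge hv
            rwa [hxx']
      exact hE0 (eq_bot_iff.2 fun v hv =>
        (Submodule.mem_bot k).2 (Submodule.disjoint_def.1 hc.disjoint v (hET hv) (hEM hv)))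
    rw [hMtop] at hc
    have hTtop : T = ⊤ := by simpa using hc.sup_eq_top
    have hU1 : ∀ u ∈ U, u = 1 := by
      intro u hu
      have h1 : res u = 1 := hf (LinearMap.ext fun v => by
        rw [← hact, map_one, Module.End.one_apply]
        have hv : v ∈ T := hTtop ▸ trivial
        have := (Submodule.mem_iInf _).1 hv 1
        rw [Submodule.mem_comap, map_one, Module.End.one_apply] at this
        exact this u hu)
      refine ofConv_injective (AlgHom.ext fun q => ?_)
      obtain ⟨a, rfl⟩ := hπ q
      refine (congr(($h1).ofConv a)).trans ?_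
      rw [AlgHom.convOne_apply, AlgHom.convOne_apply, CoalgHomClass.counit_comp_apply]
    refine le_antisymm (fun a ha => Submodule.IsCoideal.counit_eq_zero (I := I.restrictScalars k) (x := a) ha)
      fun a ha => ?_
    rw [← Ideal.Quotient.eq_zero_iff_mem]
    refine Conn.eq_zero_of_forall_point (k := k) fun h => ?_
    have h2 := hU1 (toConv (h.ofConv.comp (Ideal.Quotient.mkₐ k I))) fun b hb => by
      show h.ofConv (Ideal.Quotient.mk I b) = 0
      rw [Ideal.Quotient.eq_zero_iff_mem.2 hb, map_zero]
    exact (congr(($h2).ofConv a)).trans (by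
      rw [AlgHom.convOne_apply, ← Bialgebra.counitAlgHom_apply, RingHom.mem_ker.1 ha, map_zero])
  have hQred : HopfRep.IsLinearlyReductive k Q := GIT36.LinRedChar0.isLinearlyReductive_of_hrad hrad
  refine isLinearlyReductive_of_trivialQuotient fun X _ _ cX _ p hps hpc => ?_
  have hp : ∀ (x : Pt k A) (v : X), p (actHom k A X x v) = p v := by
    intro x v
    show p (rc x.ofConv.toLinearMap (HopfRep.Comod.coact (k := k) (A := A) v)) = _
    rw [← rc_rTensor, ← LinearMap.comp_apply (p.rTensor A), hpc]
    show rc x.ofConv.toLinearMap (p v ⊗ₜ[k] (1 : A)) = _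
    rw [rc_tmul, AlgHom.toLinearMap_apply, map_one, one_smul]
  letI cXQ : HopfRep.Comod k Q X := Comod33.push (π : A →ₗc[k] Q) cX
  have hker : HopfRep.IsSubcomod (k := k) (A := Q) (LinearMap.ker p) :=
    Conn.isSubcomod_of_forall_point _ fun g v hv => by
      rw [LinearMap.mem_ker, hact, hp]; exact hv
  obtain ⟨L, hL, hLc⟩ := hQred X inferInstance _ hker
  obtain ⟨x₀, hx₀⟩ := hps 1
  obtain ⟨a, ha, v, hv, rfl⟩ := Submodule.mem_sup.1 (hLc.sup_eq_top ▸ Submodule.mem_top (x := x₀))
  rw [map_add, LinearMap.mem_ker.1 ha, zero_add] at hx₀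
  have hvfix : ∀ x ∈ G₀, actHom k A X x v = v := by
    intro x hx
    obtain ⟨g, rfl⟩ := (hres x).1 hx
    refine sub_eq_zero.1 (Submodule.disjoint_def.1 hLc.disjoint _ (LinearMap.mem_ker.2 ?_) ?_)
    · rw [map_sub, hp, sub_self]
    · refine sub_mem ?_ hv
      rw [← hact]; exact (isSubcomod_iff L).1 hL g.ofConv.toLinearMap v hv
  haveI : Finite (Pt k A ⧸ G₀) := hfin
  letI := Fintype.ofFinite (Pt k A ⧸ G₀)
  let f : Pt k A ⧸ G₀ → X := Quotient.lift (fun x => actHom k A X x v) fun x y hxy => by
    have h : x⁻¹ * y ∈ G₀ := QuotientGroup.leftRel_apply.1 hxy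
    conv_rhs => rw [show y = x * (x⁻¹ * y) by group, map_mul, Module.End.mul_apply, hvfix _ h]
  refine ⟨∑ c, f c, mem_fixedPts_of_forall fun x => ?_, ?_⟩
  · rw [map_sum]
    refine Fintype.sum_equiv (MulAction.toPerm x) _ _ fun c => ?_
    induction c using QuotientGroup.induction_on with
    | _ y => exact (LinearMap.congr_fun (map_mul (actHom k A X) x y) v).symm
  · rw [map_sum, Finset.sum_congr rfl fun c _ => show p (f c) = 1 from ?_]
    · simp
    · induction c using QuotientGroup.induction_on with
      | _ y => exact (hp y v).trans hx₀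

end Groth.Agent.Char34
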