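import Groth.Agent.Char34.RedQuot
import Groth.Agent.SGA3a.HopfFG
import Groth.Agent.Comod33.SubHopf
import Groth.Agent.Comod33.HopfSurjFG

/-!
The reductive quotient of an affine group in characteristic zero.
-/

set_option autoImplicit false

universe u

open TensorProduct WithConv Groth.Agent.Comod33 Groth.Agent.Comod33.Conn

noncomputable section

namespace Groth.Agent.Char34

variable {k : Type u} [Field k] {A : Type u} [CommRing A] [HopfAlgebra k A]

theorem actHom_comod {ι : Type} [Fintype ι] [DecidableEq ι] {c : ι → ι → A} (hc : Mat.IsRep (k := k) c)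
    (g : Pt k A) (j : ι) :
    @actHom k _ A _ _ (ι → k) _ _ (Mat.comod hc) g (Pi.single j 1) = ∑ i, g.ofConv (c i j) • Pi.single i (1 : k) := by
  show rc g.ofConv.toLinearMap (Mat.repCoact (k := k) c (Pi.single j 1)) = _
  rw [Mat.repCoact_single, map_sum]
  simp only [rc_tmul, AlgHom.toLinearMap_apply]

theorem actHom_basis {V : Type u} [AddCommGroup V] [Module k V] [HopfRep.Comod k A V] {ι : Type} [Fintype ι]
    [DecidableEq ι] (b : Module.Basis ι k V) (g : Pt k A) (j : ι) :
    actHom k A V g (b j) = ∑ i, g.ofConv (Mat.mc (A := A) b i j) • b i := by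
  show rc g.ofConv.toLinearMap (HopfRep.Comod.coact (k := k) (A := A) (b j)) = _
  rw [Mat.coact_basis b j, map_sum]
  simp only [rc_tmul, AlgHom.toLinearMap_apply]

variable [IsAlgClosed k] [CharZero k] [Algebra.FiniteType k A]

/-- finitely many simple representations cut out the unipotent radical -/
theorem exists_ss_sub : ∃ (W : Submodule k A) (hW : HopfRep.IsSubcomod (k := k) (A := A) W), Module.Finite k W ∧
    (letI := ComodSub.Comod.restr (HopfRep.Comod.regular k A) W hW
     HopfRep.IsSemisimpleComod k A W) ∧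
    ∀ g : A →ₐ[k] k, (∀ w ∈ W, HopfRep.Comod.act k A A g w = w) →
      ∀ M : Submodule k A, GIT36.LinRedChar0.IsMinSub M → ∀ w ∈ M, HopfRep.Comod.act k A A g w = w := by
  classical
  haveI : IsNoetherianRing A := Algebra.FiniteType.isNoetherianRing k A
  obtain ⟨t, ht, hspan⟩ := Submodule.fg_span_iff_fg_span_finset_subset
    ((fun b => b - algebraMap k A (CoalgebraStruct.counit (R := k) b)) '' GIT36.LinRedChar0.ssCoef k A) |>.1
    (IsNoetherian.noetherian (R := A) (M := A) _)
  choose b hb hbe using fun x : t => ht x.2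
  choose M φ w hM hw hbw using hb
  let W : Submodule k A := ⨆ x : t, M x
  have hW : HopfRep.IsSubcomod (k := k) (A := A) W := isSubcomod_iSup _ fun x => (hM x).1
  haveI hMf : ∀ x : t, Module.Finite k (M x) := fun x => (hM x).2.2.1
  refine ⟨W, hW, Submodule.finite_iSup M, ?_, fun g hg N hN v hv => ?_⟩
  · intro X hX
    let X' : Submodule k A := X.map W.subtype
    letI := ComodSub.Comod.restr (HopfRep.Comod.regular k A) W hW
    have hι : Hoch.IsComodHom A W.subtype := ComodSub.isComodHom_subtype (HopfRep.Comod.regular k A) W hW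
    have hX' : HopfRep.IsSubcomod (k := k) (A := A) X' := isSubcomod_map hX hι
    let U : Submodule (WithConv (A →ₗ[k] k)) A := ⨆ x : t, toSub (M x) (hM x).1
    haveI hUss : IsSemisimpleModule (WithConv (A →ₗ[k] k)) U := by
      have h1 : ∀ x : t, IsSemisimpleModule (WithConv (A →ₗ[k] k)) (toSub (M x) (hM x).1) := fun x => by
        haveI := (isSimpleModule_toSub_iff (hM x).1).2 ⟨(hM x).2.1, fun W' hW' hle => (hM x).2.2.2 W' hle hW'⟩
        infer_instance
      have h2 := isSemisimpleModule_biSup_of_isSemisimpleModule_submodule (s := (Set.univ : Set t))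
        (p := fun x => toSub (M x) (hM x).1) fun x _ => h1 x
      rw [iSup_univ] at h2
      exact h2
    have hUW : U.restrictScalars k = W := by
      rw [show U.restrictScalars k = ⨆ x : t, (toSub (M x) (hM x).1).restrictScalars k from
        (Comod33.iSup_restrictScalars _).symm]
      simp only [restrictScalars_toSub]
      rfl
    have hmem : ∀ a : A, a ∈ U ↔ a ∈ W := fun a => by rw [← hUW]; rfl
    haveI := (isSemisimpleModule_iff _ _).1 hUss
    obtain ⟨Y, hY⟩ := exists_isCompl ((toSub X' hX').comap U.subtype)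
    let Y' : Submodule k A := (Y.map U.subtype).restrictScalars k
    have hY' : HopfRep.IsSubcomod (k := k) (A := A) Y' := isSubcomod_restrictScalars _
    refine ⟨Y'.comap W.subtype, isSubcomod_comap hY' hι, ⟨?_, ?_⟩⟩
    · rw [Submodule.disjoint_def]
      rintro ⟨a, ha⟩ h1 ⟨y, hy, hya⟩
      have hya' : (y : A) = a := hya
      have h0 := Submodule.disjoint_def.1 hY.disjoint y (show (y : A) ∈ toSub X' hX' from
        hya' ▸ Submodule.mem_map_of_mem h1) hy
      exact Subtype.ext (hya'.symm.trans (congrArg Subtype.val h0))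
    · rw [codisjoint_iff, eq_top_iff]
      rintro ⟨a, ha⟩ -
      obtain ⟨p, hp, q, hq, hpq⟩ := Submodule.mem_sup.1
        (show (⟨a, (hmem a).2 ha⟩ : U) ∈ (toSub X' hX').comap U.subtype ⊔ Y by rw [hY.sup_eq_top]; trivial)
      obtain ⟨x, hx, hxp⟩ := hp
      refine Submodule.mem_sup.2 ⟨x, hx, ⟨q, (hmem _).1 q.2⟩, ⟨q, hq, rfl⟩, Subtype.ext ?_⟩
      exact (congrArg (· + (q : A)) hxp).trans (congrArg Subtype.val hpq)
  · have hle : GIT36.LinRedChar0.ssIdeal k A ≤ RingHom.ker g := by
      rw [GIT36.LinRedChar0.ssIdeal, Ideal.span, hspan]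
      refine Submodule.span_le.2 fun a ha => ?_
      obtain ⟨x, rfl⟩ : ∃ x : t, (x : A) = a := ⟨⟨a, ha⟩, rfl⟩
      show g (x : A) = 0
      rw [← hbe x, map_sub, AlgHom.commutes, hbw x, counit_cf, lc_coact_regular,
        hg _ (Submodule.mem_iSup_of_mem x (hw x))]
      exact sub_self _
    have h1 := (GIT36.LinRedChar0.kills_ssIdeal_iff g).1 (fun a ha => hle ha) N hN v hv
    show TensorProduct.rid k A (g.toLinearMap.lTensor A ((HopfRep.Comod.regular k A).coact v)) = v
    rw [h1, TensorProduct.rid_tmul, one_smul]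

/-- the quotient by the unipotent radical -/
theorem exists_red_quot :
    ∃ (C : Type u) (_ : CommRing C) (_ : HopfAlgebra k C) (_ : Algebra.FiniteType k C) (φ : C →ₐc[k] A),
      Function.Injective φ ∧ HopfRep.IsLinearlyReductive k C ∧
      ∀ g : Pt k A, HopfFlat.restrPts φ g = 1 → ∀ (V : Type u) [AddCommGroup V] [Module k V] [HopfRep.Comod k A V],
        Module.Finite k V → IsNilpotent (actHom k A V g - 1) := by
  classical
  haveI : IsReduced A := Aug.isReduced_of_charZero (k := k)
  obtain ⟨W, hW, hWf, hWss, hker⟩ := exists_ss_sub (k := k) (A := A)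
  letI cW := ComodSub.Comod.restr (HopfRep.Comod.regular k A) W hW
  let b := Module.finBasis k W
  let a : Matrix _ _ A := Matrix.of (Mat.mc (A := A) b)
  have hrep := Mat.isRep_mc (A := A) b
  let S := HopfAlgebra.antipodeAlgHom k A
  have hba : a.map S * a = 1 := by
    ext i j
    have h := HopfAlgebra.mul_antipode_rTensor_comul_apply (R := k) (Mat.mc (A := A) b i j)
    rw [hrep.comul, hrep.counit] at h
    simp only [map_sum, LinearMap.rTensor_tmul, LinearMap.mul'_apply] at h
    rw [Matrix.mul_apply, Matrix.one_apply]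
    refine h.trans ?_
    split_ifs <;> simp
  let u := (a.map S).det
  have hu : u * a.det = 1 := by rw [← Matrix.det_mul, hba, Matrix.det_one]
  let B := Algebra.adjoin k (Set.range (fun p : Fin (Module.finrank k W) × Fin (Module.finrank k W) => a p.1 p.2) ∪ {u})
  have hB : SubHopf.IsSubHopf B := SGA3a.stable_adjoin_corep a hrep.comul hrep.counit u hu
  letI hH : HopfAlgebra k B := SubHopf.hopfAlgebra hB
  haveI : Algebra.FiniteType k B := by
    refine (B.fg_iff_finiteType).1 (Subalgebra.fg_def.2 ⟨_, ?_, rfl⟩)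
    exact (Set.finite_range _).union (Set.finite_singleton _)
  haveI : IsReduced B := Aug.isReduced_of_charZero (k := k)
  let φ : B →ₐc[k] A := SubHopf.incl hB
  have hφ : Function.Injective φ := fun x y h => Subtype.ext h
  have haB : ∀ i j, a i j ∈ B := fun i j => Algebra.subset_adjoin (Or.inl ⟨(i, j), rfl⟩)
  let c : Fin (Module.finrank k W) → Fin (Module.finrank k W) → B := fun i j => ⟨a i j, haB i j⟩
  have hc : Mat.IsRep (k := k) c :=
    { comul := fun i j => SubHopf.val₂_injective B (by
        show SubHopf.val₂ B (SubHopf.comul hB _) = _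
        rw [SubHopf.val₂_comul, map_sum]
        exact hrep.comul i j)
      counit := fun i j => hrep.counit i j }
  letI cV : HopfRep.Comod k B (Fin (Module.finrank k W) → k) := Mat.comod hc
  let e := b.equivFun
  have he : ∀ (g : Pt k A) (w : W), e (actHom k A W g w) =
      actHom k B (Fin (Module.finrank k W) → k) (HopfFlat.restrPts φ g) (e w) := by
    intro g
    refine LinearMap.congr_fun (b.ext fun j => ?_ :
      e.toLinearMap ∘ₗ (actHom k A W g) = (actHom k B (Fin (Module.finrank k W) → k) (HopfFlat.restrPts φ g)) ∘ₗ e.toLinearMap)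
    simp only [LinearMap.comp_apply, LinearEquiv.coe_coe]
    have hej : ∀ i, e (b i) = Pi.single i 1 := fun i => by
      ext l
      simp [e, Module.Basis.equivFun_apply, Finsupp.single_apply, Pi.single_apply, eq_comm]
    rw [actHom_basis, map_sum, hej, actHom_comod hc]
    simp only [map_smul, hej]
    rfl
  have hlift : ∀ g : Pt k B, ∃ h : Pt k A, HopfFlat.restrPts φ h = g := fun g => by
    obtain ⟨h, hh⟩ := HopfFlat.exists_point_lift_fg φ hφ g.ofConv
    exact ⟨toConv h, ofConv_injective hh⟩
  have hf : Function.Injective (actHom k B (Fin (Module.finrank k W) → k)) := by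
    intro g g' h
    have hgen : ∀ i j, g.ofConv (c i j) = g'.ofConv (c i j) := fun i j => by
      have h1 := congrArg (fun f => f (Pi.single j (1 : k)) i) h
      simpa [actHom_comod hc, Finset.sum_apply, Pi.single_apply] using h1
    refine ofConv_injective (AlgHom.ext fun x => ?_)
    obtain ⟨x, hx⟩ := x
    induction hx using Algebra.adjoin_induction with
    | mem y hy =>
      rcases hy with ⟨p, rfl⟩ | rfl
      · exact hgen p.1 p.2
      · let cM : Matrix _ _ B := Matrix.of c
        let uB : B := ⟨u, Algebra.subset_adjoin (Or.inr rfl)⟩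
        show g.ofConv uB = g'.ofConv uB
        have h2 : uB * cM.det = 1 := Subtype.ext (by
          show u * B.val cM.det = 1
          rw [AlgHom.map_det]; exact hu)
        have h3 : g.ofConv cM.det = g'.ofConv cM.det := by
          rw [AlgHom.map_det, AlgHom.map_det]; congr 1; ext i j; exact hgen i j
        have h4 : g.ofConv uB * g.ofConv cM.det = 1 := by rw [← map_mul, h2, map_one]
        have h5 : g'.ofConv uB * g.ofConv cM.det = 1 := by rw [h3, ← map_mul, h2, map_one]
        exact mul_right_cancel₀ (right_ne_zero_of_mul_eq_one h4) (h4.trans h5.symm)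
    | algebraMap r => exact (g.ofConv.commutes r).trans (g'.ofConv.commutes r).symm
    | add y z hy hz h1 h2 =>
      show g.ofConv (⟨y, hy⟩ + ⟨z, hz⟩) = g'.ofConv (⟨y, hy⟩ + ⟨z, hz⟩)
      rw [map_add, map_add, h1, h2]
    | mul y z hy hz h1 h2 =>
      show g.ofConv (⟨y, hy⟩ * ⟨z, hz⟩) = g'.ofConv (⟨y, hy⟩ * ⟨z, hz⟩)
      rw [map_mul, map_mul, h1, h2]
  have hss : HopfRep.IsSemisimpleComod k B (Fin (Module.finrank k W) → k) := by
    intro X hX
    have hX' : HopfRep.IsSubcomod (k := k) (A := A) (X.comap e.toLinearMap) :=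
      Conn.isSubcomod_of_forall_point _ fun g w hw => by
        show e (actHom k A W g w) ∈ X
        rw [he]; exact (isSubcomod_iff X).1 hX _ _ hw
    obtain ⟨Y, hY, hXY⟩ := hWss _ hX'
    refine ⟨Y.map e.toLinearMap, Conn.isSubcomod_of_forall_point _ ?_, ?_⟩
    · rintro g _ ⟨w, hw, rfl⟩
      obtain ⟨h, rfl⟩ := hlift g
      exact ⟨actHom k A W h w, (isSubcomod_iff Y).1 hY h.ofConv.toLinearMap w hw, he h w⟩
    · have h := hXY.map (Submodule.orderIsoMapComap e)
      rwa [Submodule.orderIsoMapComap_apply, Submodule.orderIsoMapComap_apply,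
        Submodule.map_comap_eq_of_surjective e.surjective] at h
  refine ⟨B, inferInstance, hH, inferInstance, φ, hφ, isLinearlyReductive_of_faithful _ hss hf, fun g hg V _ _ _ hV => ?_⟩
  refine GIT36.LinRedChar0.isNilpotent_act_sub_one' (g := g.ofConv) (hker g.ofConv fun w hw => ?_) V
  have h1 : e (actHom k A W g ⟨w, hw⟩) = e ⟨w, hw⟩ := by rw [he, hg, map_one, Module.End.one_apply]
  exact (IsComodHom.dact (ComodSub.isComodHom_subtype (HopfRep.Comod.regular k A) W hW)
    g.ofConv.toLinearMap ⟨w, hw⟩).symm.trans (congrArg Subtype.val (e.injective h1))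

end Groth.Agent.Char34
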