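import Groth.Agent.Char34.Basic
import Groth.Agent.GaExt25.AffPts
import Groth.Prelude.Def_CoactBr

/-!
Points of the group scheme attached to a Hopf algebra, for the statements on conjugacy classes.
-/

set_option autoImplicit false

universe u

open CategoryTheory AlgebraicGeometry MonObj CartesianMonoidalCategory Groth.Agent.Comod33.Conn
open scoped TensorProduct

noncomputable section

namespace Groth.Agent.Char34

variable {k : Type u} [Field k] {A : Type u} [CommRing A] [HopfAlgebra k A]

/-- points as morphisms from the base -/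
def ptHom : Pt k A →* (CoactBr.sp k k ⟶ CoactBr.sp k A) :=
  MonoidHom.mk' (fun g => CoactBr.pt g.ofConv) fun g h =>
    map_mul Spec.mapMulEquiv g h

theorem ptHom_apply (g : Pt k A) : ptHom g = CoactBr.pt g.ofConv := rfl

theorem app_pt {K : Type u} [CommRing K] [Algebra k K] (φ : A →ₐ[k] K) (f : A) :
    (CoactBr.pt φ).left.appTop ((Scheme.ΓSpecIso (CommRingCat.of A)).inv f) =
      (Scheme.ΓSpecIso (CommRingCat.of K)).inv (φ f) := by
  rw [CoactBr.pt_left]
  exact congr($((Scheme.ΓSpecIso_inv_naturality (CommRingCat.ofHom φ.toRingHom)).symm) f)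

theorem app_ptHom_injective {f f' : k}
    (h : (Scheme.ΓSpecIso (CommRingCat.of k)).inv f = (Scheme.ΓSpecIso (CommRingCat.of k)).inv f') : f = f' :=
  (Scheme.ΓSpecIso (CommRingCat.of k)).commRingCatIsoToRingEquiv.symm.injective h

/-- a point with values in the functions of a scheme, as a homomorphism of groups -/
theorem conj_appTop {T : Over (Spec (CommRingCat.of k))} (x g : T ⟶ CoactBr.sp k A) (f : A)
    (hf : letI := GaExt25.algΓ (R := k) T; ∀ p q p' : WithConv (A →ₐ[k] Γ(T.left, ⊤)), p * p' = 1 → p' * p = 1 →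
      (p * q * p').ofConv f = q.ofConv f) :
    (x * g * x⁻¹).left.appTop ((Scheme.ΓSpecIso (CommRingCat.of A)).inv f) =
      g.left.appTop ((Scheme.ΓSpecIso (CommRingCat.of A)).inv f) := by
  letI := GaExt25.algΓ (R := k) T
  let ψ : (T ⟶ GaExt25.grpSpec k A) → WithConv (A →ₐ[k] Γ(T.left, ⊤)) := fun m =>
    WithConv.toConv (GaExt25.appAlg m)
  have hmul : ∀ m m', ψ (m * m') = ψ m * ψ m' := fun m m' =>
    WithConv.ofConv_injective (AlgHom.ext fun a => GaExt25.appG_mul m m' a)
  have hone : ψ 1 = 1 := by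
    obtain ⟨m, hm⟩ := GaExt25.exists_ptG (T := T) (A := A) (1 : WithConv (A →ₐ[k] Γ(T.left, ⊤))).ofConv.toRingHom
      fun r => (1 : WithConv (A →ₐ[k] Γ(T.left, ⊤))).ofConv.commutes r
    have hm' : ψ m = 1 := WithConv.ofConv_injective (AlgHom.ext fun a => congr($hm a))
    calc ψ 1 = ψ 1 * ψ m := by rw [hm', _root_.mul_one]
      _ = ψ m := by rw [← hmul, _root_.one_mul]
      _ = 1 := hm'
  have key : ∀ m : T ⟶ GaExt25.grpSpec k A,
      (ψ m).ofConv f = m.left.appTop ((Scheme.ΓSpecIso (CommRingCat.of A)).inv f) := fun m => by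
    show GaExt25.appG m f = _
    rw [GaExt25.appG_def]
    rfl
  rw [← key, ← key, hmul, hmul]
  exact hf _ _ _ (by rw [← hmul, mul_inv_cancel, hone]) (by rw [← hmul, inv_mul_cancel, hone])

end Groth.Agent.Char34
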