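import Mathlib.LinearAlgebra.Semisimple
import Mathlib.LinearAlgebra.FiniteDimensional.Basic
import Mathlib.Algebra.Polynomial.Derivative
import Mathlib.Algebra.Polynomial.Basis
import Mathlib.FieldTheory.Perfect
import Mathlib.RingTheory.Polynomial.Basic
import Mathlib.Tactic.NoncommRing

/-!
First-order deformations of a semisimple operator killed by a separable polynomial.
-/

set_option autoImplicit false

universe u v w

open Polynomial

noncomputable section

namespace Groth.Agent.Char34

variable {k : Type u} [Field k] {R : Type v} [Ring R] [Algebra k R]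

/-- the first-order part of `(H + X) ^ n` -/
def dpow (H X : R) : ℕ → R
  | 0 => 0
  | n + 1 => dpow H X n * H + H ^ n * X

/-- the first-order part of `m (H + X)` -/
def dpol (H X : R) : k[X] →ₗ[k] R := (Polynomial.basisMonomials k).constr k (dpow H X)

theorem dpol_monomial (H X : R) (n : ℕ) (a : k) : dpol H X (monomial n a) = a • dpow H X n := by
  rw [show (monomial n a : k[X]) = a • monomial n 1 by rw [smul_monomial]; simp, map_smul, dpol,
    show (monomial n (1 : k)) = Polynomial.basisMonomials k n by simp [Polynomial.coe_basisMonomials],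
    Module.Basis.constr_basis]

theorem dpow_add (H X Y : R) : ∀ n, dpow H (X + Y) n = dpow H X n + dpow H Y n
  | 0 => (add_zero 0).symm
  | n + 1 => by rw [dpow, dpow, dpow, dpow_add H X Y n, add_mul, mul_add]; abel

theorem dpol_add (H X Y : R) (m : k[X]) : dpol H (X + Y) m = dpol H X m + dpol H Y m := by
  induction m using Polynomial.induction_on' with
  | add p q hp hq => rw [map_add, map_add, map_add, hp, hq]; abel
  | monomial n a => rw [dpol_monomial, dpol_monomial, dpol_monomial, dpow_add, smul_add]

theorem dpow_comm (H w : R) : ∀ n, dpow H (w * H - H * w) n = w * H ^ n - H ^ n * w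
  | 0 => by simp [dpow]
  | n + 1 => by
    rw [dpow, dpow_comm H w n, sub_mul, mul_sub, mul_assoc w, ← pow_succ, mul_assoc (H ^ n) w H,
      ← mul_assoc (H ^ n) H w, ← pow_succ]
    abel

/-- commutators are killed -/
theorem dpol_comm (H w : R) (m : k[X]) :
    dpol H (w * H - H * w) m = w * aeval H m - aeval H m * w := by
  induction m using Polynomial.induction_on' with
  | add p q hp hq => rw [map_add, map_add, hp, hq, mul_add, add_mul]; abel
  | monomial n a =>
    rw [dpol_monomial, dpow_comm, aeval_monomial, ← Algebra.smul_def, mul_smul_comm, smul_mul_assoc, smul_sub]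

theorem dpow_of_commute {H X : R} (h : Commute X H) : ∀ n, dpow H X n = (n : k) • (H ^ (n - 1) * X)
  | 0 => by simp [dpow]
  | n + 1 => by
    rw [dpow, dpow_of_commute h n, smul_mul_assoc, mul_assoc, h.eq, ← mul_assoc, ← pow_succ,
      Nat.add_sub_cancel, Nat.cast_succ, add_smul, one_smul]
    rcases n with - | n
    · simp
    · rw [Nat.add_sub_cancel]

/-- on the centraliser it is the derivative -/
theorem dpol_of_commute {H X : R} (h : Commute X H) (m : k[X]) :
    dpol H X m = aeval H (derivative m) * X := by
  induction m using Polynomial.induction_on' with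
  | add p q hp hq => rw [map_add, map_add, map_add, hp, hq, add_mul]
  | monomial n a =>
    rw [dpol_monomial, dpow_of_commute (k := k) h, derivative_monomial, aeval_monomial, ← Algebra.smul_def, smul_smul,
      smul_mul_assoc]

theorem dpol_ne_zero_of_separable {H X : R} (h : Commute X H) {m : k[X]} (hm : m.Separable)
    (h0 : aeval H m = 0) : ∃ b : k[X], aeval H b * dpol H X m = X := by
  obtain ⟨a, b, hab⟩ := hm
  refine ⟨b, ?_⟩
  have e : aeval H b * aeval H (derivative m) = 1 := by
    simpa [h0] using congrArg (fun p : k[X] => aeval H p) hab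
  rw [dpol_of_commute h, ← mul_assoc, e, one_mul]

/-- derivations at a point evaluate as first-order parts -/
theorem map_aeval_eq_dpol {B : Type w} [Ring B] [Algebra k B] (h : B →ₐ[k] R) (v : B →ₗ[k] R)
    (hmul : ∀ x y, v (x * y) = v x * h y + h x * v y) (M : B) (m : k[X]) :
    v (aeval M m) = dpol (h M) (v M) m := by
  have h1 : v 1 = 0 := by
    have := hmul 1 1
    simp only [mul_one, map_one, one_mul] at this
    exact left_eq_add.1 this
  have hp : ∀ n, v (M ^ n) = dpow (h M) (v M) n := by
    intro n
    induction n with
    | zero => rw [pow_zero, h1, dpow]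
    | succ n ih => rw [pow_succ, hmul, ih, map_pow, dpow]
  induction m using Polynomial.induction_on' with
  | add p q hp hq => rw [map_add, map_add, map_add, hp, hq]
  | monomial n a => rw [dpol_monomial, aeval_monomial, ← Algebra.smul_def, map_smul, hp]

section Filt

variable (E : ℕ → Submodule k R) (hmul : ∀ i j, ∀ a ∈ E i, ∀ b ∈ E j, a * b ∈ E (i + j)) (hanti : Antitone E)

include hmul hanti in
/-- `m (H + X)` agrees with its first-order expansion one level deeper -/
theorem aeval_add_sub_dpol_mem (h1 : (1 : R) ∈ E 0) {H X : R} (hH : H ∈ E 0) {i : ℕ} (hi : 1 ≤ i)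
    (hX : X ∈ E i) (m : k[X]) : aeval (H + X) m - aeval H m - dpol H X m ∈ E (i + 1) := by
  have hHn : ∀ n, H ^ n ∈ E 0 := by
    intro n
    induction n with
    | zero => rw [pow_zero]; exact h1
    | succ n ih => rw [pow_succ]; exact hmul 0 0 _ ih _ hH
  have hd : ∀ n, dpow H X n ∈ E i := by
    intro n
    induction n with
    | zero => exact zero_mem _
    | succ n ih => exact add_mem (by simpa using hmul i 0 _ ih _ hH) (by simpa using hmul 0 i _ (hHn n) _ hX)
  have hp : ∀ n, (H + X) ^ n - H ^ n - dpow H X n ∈ E (i + 1) := by
    intro n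
    induction n with
    | zero => simp [dpow]
    | succ n ih =>
      rw [show (H + X) ^ (n + 1) - H ^ (n + 1) - dpow H X (n + 1) =
        ((H + X) ^ n - H ^ n - dpow H X n) * (H + X) + dpow H X n * X by
          rw [pow_succ, pow_succ, dpow]; noncomm_ring]
      refine add_mem ?_ (hanti (by omega) (hmul i i _ (hd n) _ hX))
      rw [mul_add]
      exact add_mem (by simpa using hmul (i + 1) 0 _ ih _ hH) (hanti (by omega) (hmul (i + 1) i _ ih _ hX))
  induction m using Polynomial.induction_on' with
  | add p q hp hq =>
    rw [map_add, map_add, map_add, show aeval (H + X) p + aeval (H + X) q - (aeval H p + aeval H q) -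
      (dpol H X p + dpol H X q) = (aeval (H + X) p - aeval H p - dpol H X p) +
        (aeval (H + X) q - aeval H q - dpol H X q) by abel]
    exact add_mem hp hq
  | monomial n a =>
    rw [dpol_monomial, aeval_monomial, aeval_monomial, ← Algebra.smul_def, ← Algebra.smul_def, ← smul_sub,
      ← smul_sub]
    exact Submodule.smul_mem _ _ (hp n)

end Filt

/-- a semisimple operator splits the space into kernel and image -/
theorem exists_ker_add_range {V : Type v} [AddCommGroup V] [Module k V] [FiniteDimensional k V]
    {f : Module.End k V} (hf : f.IsSemisimple) (x : V) : ∃ w c, f c = 0 ∧ x = f w + c := by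
  obtain ⟨C, hC, hcompl⟩ := Module.End.isSemisimple_iff.1 hf (LinearMap.ker f)
    (fun y hy => by simp [LinearMap.mem_ker.1 hy])
  have hinj : Function.Injective (f.restrict (fun y hy => hC hy : ∀ y ∈ C, f y ∈ C)) :=
    (injective_iff_map_eq_zero _).2 fun y hy => Subtype.ext
      (Submodule.disjoint_def.1 hcompl.disjoint _ (LinearMap.mem_ker.2 (congrArg Subtype.val hy)) y.2)
  obtain ⟨c, hc, y, hy, rfl⟩ := Submodule.mem_sup.1 (by rw [hcompl.sup_eq_top]; trivial : x ∈ LinearMap.ker f ⊔ C)
  obtain ⟨z, hz⟩ := LinearMap.injective_iff_surjective.1 hinj ⟨y, hy⟩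
  exact ⟨z, c, LinearMap.mem_ker.1 hc, by rw [show f (z : V) = y from congrArg Subtype.val hz, add_comm]⟩

/-- conjugation by a semisimple operator splits a stable space into commutators and the centraliser -/
theorem exists_conj_split [PerfectField k] {V : Type v} [AddCommGroup V] [Module k V] [FiniteDimensional k V]
    {H Hi : Module.End k V} (hH : H.IsSemisimple) (hHi : H * Hi = 1) (L : Submodule k (Module.End k V))
    (hL : ∀ φ ∈ L, Hi * φ * H ∈ L) {x : Module.End k V} (hx : x ∈ L) :
    ∃ w ∈ L, ∃ c ∈ L, Commute c H ∧ x = Hi * w * H - w + c := by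
  have hiH : Hi * H = 1 := mul_eq_one_comm.1 hHi
  have hss : Hi.IsSemisimple := by
    refine hH.of_mem_adjoin_singleton ?_
    let f : Algebra.adjoin k {H} →ₗ[k] Algebra.adjoin k {H} :=
      LinearMap.mulRight k (⟨H, Algebra.self_mem_adjoin_singleton k H⟩ : Algebra.adjoin k {H})
    have hf : Function.Injective f := (injective_iff_map_eq_zero f).2 fun y hy => Subtype.ext <| by
      have h0 : (y : Module.End k V) * H = 0 := congrArg Subtype.val hy
      have := congrArg (· * Hi) h0
      rwa [mul_assoc, hHi, mul_one, zero_mul] at this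
    obtain ⟨y, hy⟩ := LinearMap.injective_iff_surjective.1 hf 1
    have h1 : (y : Module.End k V) * H = 1 := congrArg Subtype.val hy
    have h2 : (y : Module.End k V) = Hi := by
      calc (y : Module.End k V) = y * (H * Hi) := by rw [hHi, mul_one]
        _ = Hi := by rw [← mul_assoc, h1, one_mul]
    rw [← h2]; exact y.2
  let T : Module.End k (Module.End k V) := LinearMap.mulLeft k Hi * LinearMap.mulRight k H
  have hl : Module.End.IsSemisimple (LinearMap.mulLeft k Hi : Module.End k (Module.End k V)) :=
    Module.End.isSemisimple_of_squarefree_aeval_eq_zero hss.minpoly_squarefree (by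
      rw [show (LinearMap.mulLeft k Hi : Module.End k (Module.End k V)) = Algebra.lmul k (Module.End k V) Hi from rfl,
        aeval_algHom_apply, minpoly.aeval, map_zero])
  have hr : Module.End.IsSemisimple (LinearMap.mulRight k H : Module.End k (Module.End k V)) := by
    refine Module.End.isSemisimple_of_squarefree_aeval_eq_zero hH.minpoly_squarefree (LinearMap.ext fun φ => ?_)
    have key : ∀ (p : k[X]) (φ : Module.End k V),
        aeval (LinearMap.mulRight k H : Module.End k (Module.End k V)) p φ = φ * aeval H p := by
      intro p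
      induction p using Polynomial.induction_on' with
      | add p q hp hq => intro φ; rw [map_add, map_add, LinearMap.add_apply, hp, hq, mul_add]
      | monomial n a =>
        intro φ
        rw [aeval_monomial, aeval_monomial, ← Algebra.smul_def, ← Algebra.smul_def, LinearMap.smul_apply,
          mul_smul_comm, LinearMap.pow_mulRight, LinearMap.mulRight_apply]
    rw [key, minpoly.aeval, mul_zero, LinearMap.zero_apply]
  have hT : T.IsSemisimple := hl.mul_of_commute (LinearMap.commute_mulLeft_right Hi H) hr
  have hTL : ∀ φ ∈ L, (T - 1 : Module.End k (Module.End k V)) φ ∈ L := fun φ hφ => by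
    show Hi * (φ * H) - φ ∈ L
    rw [← mul_assoc]; exact sub_mem (hL φ hφ) hφ
  have hT1 : (T - 1 : Module.End k (Module.End k V)).IsSemisimple := by
    have := hT.aeval (X - 1 : k[X])
    simpa using this
  obtain ⟨w, c, hc, hxe⟩ := exists_ker_add_range (hT1.restrict (p := L) hTL) ⟨x, hx⟩
  have hc0 : Hi * ((c : Module.End k V) * H) - c = 0 := congrArg Subtype.val hc
  refine ⟨w, w.2, c, c.2, ?_, ?_⟩
  · show (c : Module.End k V) * H = H * c
    conv_rhs => rw [← sub_eq_zero.1 hc0, ← mul_assoc, hHi, one_mul]
  · exact (congrArg Subtype.val hxe).trans (by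
      show Hi * ((w : Module.End k V) * H) - w + c = _
      rw [← mul_assoc])

end Groth.Agent.Char34
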