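import Groth.Agent.Char34.UnipPath
import Groth.Agent.Char34.SepPoly
import Groth.Agent.Comod33.Kolchin
import Groth.Agent.Comod33.HopfSurjFG
import Mathlib.Tactic.Group

/-!
Semisimple points in one coset of a unipotent normal subgroup are conjugate.
-/

set_option autoImplicit false

universe u

open TensorProduct WithConv Groth.Agent.Comod33 Groth.Agent.Comod33.Conn Polynomial

noncomputable section

namespace Groth.Agent.Char34

/-- a filtration fixed successively by a unipotent normal subgroup -/
theorem exists_fixed_filtration {k : Type u} [Field k] {V : Type u} [AddCommGroup V] [Module k V]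
    [FiniteDimensional k V] {G : Type u} [Group G] (ρ : G →* Module.End k V) (U : Subgroup G) (hn : U.Normal)
    (hU : ∀ u ∈ U, IsNilpotent (ρ u - 1)) :
    ∃ (F : ℕ → Submodule k V) (N : ℕ), F 0 = ⊥ ∧ F N = ⊤ ∧ Monotone F ∧
      (∀ j g, ∀ v ∈ F j, ρ g v ∈ F j) ∧ ∀ j, ∀ u ∈ U, ∀ v ∈ F (j + 1), ρ u v - v ∈ F j := by
  let nx : Submodule k V → Submodule k V := fun E => ⨅ u : U, E.comap (ρ u - 1)
  let F : ℕ → Submodule k V := fun j => Nat.rec (motive := fun _ => Submodule k V) ⊥ (fun _ E => nx E) j
  have hmem : ∀ j v, v ∈ F (j + 1) ↔ ∀ u ∈ U, ρ u v - v ∈ F j := fun j v => by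
    show v ∈ nx (F j) ↔ _
    simp only [nx, Submodule.mem_iInf, Submodule.mem_comap, LinearMap.sub_apply, Module.End.one_apply,
      Subtype.forall]
  have hinv : ∀ (g : G) v, ρ g⁻¹ (ρ g v) = v := fun g v => by
    rw [← Module.End.mul_apply, ← map_mul, inv_mul_cancel, map_one, Module.End.one_apply]
  have hstab : ∀ j g, ∀ v ∈ F j, ρ g v ∈ F j := by
    intro j
    induction j with
    | zero => intro g v hv; rw [(Submodule.mem_bot k).1 hv, map_zero]; exact zero_mem _
    | succ j ih =>
      intro g v hv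
      refine (hmem j _).2 fun u hu => ?_
      have h1 := (hmem j v).1 hv _ (show g⁻¹ * u * g ∈ U by simpa using hn.conj_mem u hu g⁻¹)
      have h2 := ih g _ h1
      rwa [map_sub, ← Module.End.mul_apply, ← map_mul, show g * (g⁻¹ * u * g) = u * g by group, map_mul,
        Module.End.mul_apply] at h2
  have hle : ∀ j, F j ≤ F (j + 1) := fun j v hv => (hmem j v).2 fun u _ => sub_mem (hstab j u v hv) hv
  have hlt : ∀ j, F j ≠ ⊤ → F j < F (j + 1) := by
    intro j hj
    refine lt_of_le_of_ne (hle j) fun he => ?_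
    haveI : Nontrivial (V ⧸ F j) := Submodule.Quotient.nontrivial_iff.2 hj
    let q : U →* Module.End k (V ⧸ F j) :=
      { toFun := fun u => (F j).mapQ (F j) (ρ u) fun v hv => hstab j u v hv
        map_one' := LinearMap.ext fun x => Submodule.Quotient.induction_on _ x fun v => by
          rw [Submodule.mapQ_apply, OneMemClass.coe_one, map_one]; rfl
        map_mul' := fun u u' => LinearMap.ext fun x => Submodule.Quotient.induction_on _ x fun v => by
          rw [Module.End.mul_apply, Submodule.mapQ_apply, Submodule.mapQ_apply, Submodule.mapQ_apply,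
            Subgroup.coe_mul, map_mul, Module.End.mul_apply] }
    obtain ⟨x, hx0, hx⟩ := exists_fixed_of_unipotent q fun u => by
      obtain ⟨n, hn⟩ := hU u u.2
      have hp : ∀ (m : ℕ) (v : V), ((q u - 1 : Module.End k (V ⧸ F j)) ^ m) (Submodule.Quotient.mk v) =
          Submodule.Quotient.mk (((ρ (u : G) - 1 : Module.End k V) ^ m) v) := by
        intro m
        induction m with
        | zero => intro v; rfl
        | succ m ih =>
          intro v
          rw [pow_succ, pow_succ, Module.End.mul_apply, Module.End.mul_apply, ← ih]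
          congr 1
      refine ⟨n, LinearMap.ext fun x => Submodule.Quotient.induction_on _ x fun v => ?_⟩
      rw [hp, hn, LinearMap.zero_apply, LinearMap.zero_apply, Submodule.Quotient.mk_zero]
    induction x using Submodule.Quotient.induction_on with
    | _ v =>
      refine hx0 ((Submodule.Quotient.mk_eq_zero _).2 ?_)
      rw [he]
      exact (hmem j v).2 fun u hu => (Submodule.Quotient.eq _).1 (hx ⟨u, hu⟩)
  have hmono : Monotone F := monotone_nat_of_le_succ hle
  have hdim : ∀ j, F j = ⊤ ∨ j ≤ Module.finrank k (F j) := by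
    intro j
    induction j with
    | zero => exact Or.inr (Nat.zero_le _)
    | succ j ih =>
      rcases eq_or_ne (F j) ⊤ with h | h
      · exact Or.inl (eq_top_iff.2 (h ▸ hle j))
      · have := Submodule.finrank_lt_finrank_of_lt (hlt j h)
        exact Or.inr (by have := ih.resolve_left h; omega)
  refine ⟨F, Module.finrank k V + 1, rfl, ?_, hmono, hstab, fun j u hu v hv => (hmem j v).1 hv u hu⟩
  refine (hdim (Module.finrank k V + 1)).resolve_right fun h => ?_
  have := Submodule.finrank_le (F (Module.finrank k V + 1))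
  omega

variable {k : Type u} [Field k] [CharZero k]

/-- semisimple elements of one coset of a unipotent normal subgroup are conjugate -/
theorem exists_conj_of_filtration {V : Type u} [AddCommGroup V] [Module k V] [FiniteDimensional k V]
    {G : Type u} [Group G] (ρ : G →* Module.End k V) (hinj : Function.Injective ρ) (U : Subgroup G) (hn : U.Normal)
    (hU : ∀ u ∈ U, IsNilpotent (ρ u - 1))
    (hpath : ∀ y ∈ U, ∀ t : k, ∃ z ∈ U, ∀ M : ℕ, (ρ y - 1) ^ M = 0 →
      ρ z = ∑ l ∈ Finset.range M, (binom k l).eval t • (ρ y - 1) ^ l)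
    {g g' : G} (hg : ∀ x, Module.End.IsSemisimple (ρ (x * g * x⁻¹))) (hg' : Module.End.IsSemisimple (ρ g'))
    (hgg' : g⁻¹ * g' ∈ U) : ∃ x, x * g * x⁻¹ = g' := by
  classical
  obtain ⟨F, N, hF0, hFN, hFm, hFs, hFU⟩ := exists_fixed_filtration ρ U hn hU
  let E : ℕ → Submodule k (Module.End k V) := fun i =>
    { carrier := {f | ∀ j, ∀ v ∈ F (j + i), f v ∈ F j}
      add_mem' := fun {p q} hp hq j v hv => by rw [LinearMap.add_apply]; exact add_mem (hp j v hv) (hq j v hv)
      zero_mem' := fun j v _ => zero_mem _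
      smul_mem' := fun c p hp j v hv => by rw [LinearMap.smul_apply]; exact Submodule.smul_mem _ _ (hp j v hv) }
  have hmul : ∀ i l, ∀ a ∈ E i, ∀ b ∈ E l, a * b ∈ E (i + l) := fun i l a ha b hb j v hv =>
    ha j _ (hb (j + i) v (by rwa [add_assoc]))
  have hanti : Antitone E := fun i l h a ha j v hv => ha j v (hFm (by omega) hv) |> fun h => by
    exact h
  have h1 : (1 : Module.End k V) ∈ E 0 := fun j v hv => hv
  have hρ0 : ∀ x, ρ x ∈ E 0 := fun x j v hv => hFs j x v hv
  have hU1 : ∀ u ∈ U, ρ u - 1 ∈ E 1 := fun u hu j v hv => hFU j u hu v hv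
  have hE0 : ∀ a ∈ E N, a = 0 := fun a ha => LinearMap.ext fun v => by
    have := ha 0 v (by rw [zero_add, hFN]; trivial)
    rwa [hF0, Submodule.mem_bot] at this
  have hmul0 : ∀ i, ∀ a ∈ E i, ∀ x y, ρ x * a * ρ y ∈ E i := fun i a ha x y => by
    simpa using hmul i 0 _ (by simpa using hmul 0 i _ (hρ0 x) a ha) _ (hρ0 y)
  -- products are additive to first order
  have hlin : ∀ i, 1 ≤ i → ∀ a b, a - 1 ∈ E i → b - 1 ∈ E i →
      a * b - 1 - ((a - 1) + (b - 1)) ∈ E (i + 1) := fun i hi a b ha hb => by
    rw [show a * b - 1 - ((a - 1) + (b - 1)) = (a - 1) * (b - 1) by noncomm_ring]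
    exact hanti (by omega) (hmul i i _ ha _ hb)
  have hconj1 : ∀ x y, ρ (x⁻¹ * y * x) - 1 = ρ x⁻¹ * (ρ y - 1) * ρ x := fun x y => by
    rw [map_mul, map_mul, mul_sub, sub_mul, mul_one, ← map_mul ρ x⁻¹ x, inv_mul_cancel, map_one]
  suffices h : ∀ i, 1 ≤ i → ∃ x ∈ U, ρ ((x * g * x⁻¹)⁻¹ * g') - 1 ∈ E i by
    obtain ⟨x, hx, hxi⟩ := h (N + 1) (by omega)
    refine ⟨x, ?_⟩
    have h2 := hinj ((sub_eq_zero.1 (hE0 _ (hanti (by omega) hxi))).trans (map_one ρ).symm)
    exact inv_mul_eq_one.1 h2
  intro i hi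
  induction i, hi using Nat.le_induction with
  | base =>
    refine ⟨1, one_mem _, hU1 _ ?_⟩
    rw [one_mul, inv_one, mul_one]
    exact hgg'
  | succ i hi ih =>
    obtain ⟨x, hxU, hx⟩ := ih
    let h := x * g * x⁻¹
    let u := h⁻¹ * g'
    have huU : u ∈ U := by
      have h2 : u = x * (g⁻¹ * x⁻¹ * g⁻¹⁻¹) * (g⁻¹ * g') := by simp only [u, h]; group
      rw [h2]
      exact mul_mem (mul_mem hxU (hn.conj_mem _ (inv_mem hxU) g⁻¹)) hgg'
    let H := ρ h
    let Hi := ρ h⁻¹
    have hHi : H * Hi = 1 := by rw [← map_mul, mul_inv_cancel, map_one]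
    let ν := ρ u - 1
    have hν : ν ∈ E i := hx
    have hg'H : ρ g' = H + H * ν := by
      show ρ g' = ρ h + ρ h * (ρ u - 1)
      rw [mul_sub, mul_one, add_sub_cancel, ← map_mul, show h * u = g' from mul_inv_cancel_left h g']
    have hHν : H * ν ∈ E i := by simpa using hmul 0 i _ (hρ0 h) _ hν
    have hH : Module.End.IsSemisimple H := hg x
    let m := minpoly k (ρ g')
    have hm : m.Separable := PerfectField.separable_iff_squarefree.2 hg'.minpoly_squarefree
    have hexp := aeval_add_sub_dpol_mem E hmul hanti h1 (hρ0 h) hi hHν m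
    rw [← hg'H, show aeval (ρ g') m = 0 from minpoly.aeval k (ρ g')] at hexp
    have hd1 : dpol H (H * ν) m ∈ E 1 := by
      have hd : ∀ n, dpow H (H * ν) n ∈ E i := by
        intro n
        induction n with
        | zero => exact zero_mem _
        | succ n ihn =>
          refine add_mem (by simpa using hmul i 0 _ ihn _ (hρ0 h)) ?_
          have : H ^ n ∈ E 0 := by rw [← map_pow]; exact hρ0 _
          simpa using hmul 0 i _ this _ hHν
      have hall : ∀ p : k[X], dpol H (H * ν) p ∈ E i := by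
        intro p
        induction p using Polynomial.induction_on' with
        | add p q hp hq => rw [map_add]; exact add_mem hp hq
        | monomial n a => rw [dpol_monomial]; exact Submodule.smul_mem _ _ (hd n)
      have := hall m
      exact hanti hi this
    have hmH : aeval H m = 0 := by
      have h2 : aeval H m ∈ E 1 := by
        have h3 := add_mem (hanti (by omega : 1 ≤ i + 1) hexp) hd1
        rw [zero_sub, sub_add_cancel, neg_mem_iff] at h3
        exact h3
      refine Module.End.eq_zero_of_isNilpotent_isSemisimple ⟨N, hE0 _ ?_⟩ (hH.aeval m)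
      clear * - h2 hmul h1
      induction N with
      | zero => rw [pow_zero]; exact h1
      | succ n ih => rw [pow_succ]; exact hmul n 1 _ ih _ h2
    rw [hmH, sub_zero, zero_sub, neg_mem_iff] at hexp
    -- the possible leading terms form a stable subspace
    let L : Submodule k (Module.End k V) :=
      { carrier := {f | ∃ y ∈ U, ρ y - 1 ∈ E i ∧ f - (ρ y - 1) ∈ E (i + 1)}
        add_mem' := by
          rintro p q ⟨y, hy, hyi, hp⟩ ⟨y', hy', hyi', hq⟩
          have hl := hlin i hi _ _ hyi hyi'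
          rw [← map_mul] at hl
          refine ⟨y * y', mul_mem hy hy', ?_, ?_⟩
          · have := add_mem (hanti (Nat.le_succ i) hl) (add_mem hyi hyi')
            rwa [sub_add_cancel] at this
          · rw [show p + q - (ρ (y * y') - 1) =
              (p - (ρ y - 1)) + (q - (ρ y' - 1)) - (ρ (y * y') - 1 - ((ρ y - 1) + (ρ y' - 1))) by abel]
            exact sub_mem (add_mem hp hq) hl
        zero_mem' := ⟨1, one_mem _, by rw [map_one, sub_self]; exact zero_mem _, by
          rw [map_one, sub_self, sub_zero]; exact zero_mem _⟩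
        smul_mem' := by
          rintro t p ⟨y, hy, hyi, hp⟩
          obtain ⟨z, hz, hpath⟩ := hpath y hy t
          have hpw : ∀ l, (ρ y - 1) ^ (l + 2) ∈ E (i + 1) := by
            intro l
            induction l with
            | zero => rw [pow_two]; exact hanti (by omega) (hmul i i _ hyi _ hyi)
            | succ l ihl => rw [show l + 1 + 2 = (l + 2) + 1 by ring, pow_succ]; exact hanti (by omega) (hmul _ _ _ ihl _ hyi)
          obtain ⟨M, hM⟩ := hU y hy
          have hM2 : (ρ y - 1) ^ (M + 2) = 0 := by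
            rw [pow_add, show (ρ y - 1) ^ M = 0 from hM, zero_mul]
          have hρz : ρ z - 1 - t • (ρ y - 1) ∈ E (i + 1) := by
            rw [hpath _ hM2, Finset.sum_range_succ', Finset.sum_range_succ', binom_zero, binom_one, eval_one,
              pow_zero, one_smul, zero_add, eval_X, pow_one, add_sub_cancel_right, add_sub_cancel_right]
            exact Submodule.sum_mem _ fun l _ => Submodule.smul_mem _ _ (hpw l)
          refine ⟨z, hz, ?_, ?_⟩
          · have := add_mem (hanti (Nat.le_succ i) hρz) (Submodule.smul_mem _ t hyi)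
            rwa [sub_add_cancel] at this
          · rw [show t • p - (ρ z - 1) = t • (p - (ρ y - 1)) - (ρ z - 1 - t • (ρ y - 1)) by rw [smul_sub]; abel]
            exact sub_mem (Submodule.smul_mem _ t hp) hρz }
    have hLs : ∀ f ∈ L, Hi * f * H ∈ L := by
      rintro f ⟨y, hy, hyi, hf⟩
      have hn : h⁻¹ * y * h ∈ U := by simpa using hn.conj_mem y hy h⁻¹
      refine ⟨h⁻¹ * y * h, hn, ?_, ?_⟩
      · rw [hconj1]; exact hmul0 i _ hyi _ _
      · rw [hconj1, ← sub_mul, ← mul_sub]; exact hmul0 (i + 1) _ hf _ _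
    obtain ⟨w, hw, c, -, hc, hsplit⟩ := exists_conj_split hH hHi L hLs
      (show ν ∈ L from ⟨u, huU, hν, by rw [sub_self]; exact zero_mem _⟩)
    -- the central part vanishes
    have hcE : c ∈ E (i + 1) := by
      have e : H * ν = (w * H - H * w) + H * c := by
        rw [hsplit, mul_add, mul_sub, ← mul_assoc, ← mul_assoc, hHi, one_mul]
      rw [e, dpol_add, dpol_comm, hmH, mul_zero, zero_mul, sub_zero, zero_add] at hexp
      have hc' : Commute (H * c) H := (Commute.refl H).mul_left hc
      obtain ⟨p, hp⟩ := dpol_ne_zero_of_separable hc' hm hmH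
      have hp0 : aeval H p ∈ E 0 := by
        clear hp
        induction p using Polynomial.induction_on' with
        | add p q hp hq => rw [map_add]; exact add_mem hp hq
        | monomial n a => rw [aeval_monomial, ← Algebra.smul_def, ← map_pow]; exact Submodule.smul_mem _ _ (hρ0 _)
      have h4 := hmul 0 (i + 1) _ hp0 _ hexp
      rw [hp, zero_add] at h4
      have h5 := hmul 0 (i + 1) _ (hρ0 h⁻¹) _ h4
      rwa [zero_add, ← mul_assoc, show ρ h⁻¹ * H = 1 from mul_eq_one_comm.1 hHi, one_mul] at h5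
    obtain ⟨y, hy, hyi, hyw⟩ := hw
    refine ⟨y * x, mul_mem hy hxU, ?_⟩
    have e : ((y * x) * g * (y * x)⁻¹)⁻¹ * g' = y * (h⁻¹ * y⁻¹ * h) * u := by simp only [h, u]; group
    rw [e]
    have hyi' : ρ y⁻¹ - 1 ∈ E i := by
      rw [show ρ y⁻¹ - 1 = -(ρ y⁻¹ * (ρ y - 1)) by
        rw [mul_sub, mul_one, ← map_mul, inv_mul_cancel, map_one]; abel]
      exact neg_mem (by simpa using hmul 0 i _ (hρ0 _) _ hyi)
    have hneg : (ρ y⁻¹ - 1) + (ρ y - 1) ∈ E (i + 1) := by
      have := hlin i hi _ _ hyi' hyi
      rwa [← map_mul, inv_mul_cancel, map_one, sub_self, zero_sub, neg_mem_iff] at this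
    have hc1 : ρ (h⁻¹ * y⁻¹ * h) - 1 = Hi * (ρ y⁻¹ - 1) * H := hconj1 h y⁻¹
    have hA : ρ (y * (h⁻¹ * y⁻¹ * h)) - 1 - ((ρ y - 1) + Hi * (ρ y⁻¹ - 1) * H) ∈ E (i + 1) := by
      rw [← hc1, map_mul]
      exact hlin i hi _ _ hyi (by rw [hc1]; exact hmul0 i _ hyi' _ _)
    have hAi : ρ (y * (h⁻¹ * y⁻¹ * h)) - 1 ∈ E i := by
      have := add_mem (hanti (Nat.le_succ i) hA) (add_mem hyi (hmul0 i _ hyi' h⁻¹ h))
      rwa [sub_add_cancel] at this
    have hB := hlin i hi _ _ hAi hν
    rw [← map_mul] at hB
    have hC : (ρ y - 1) + Hi * (ρ y⁻¹ - 1) * H + ν ∈ E (i + 1) := by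
      have hD : Hi * ((ρ y⁻¹ - 1) + (ρ y - 1)) * H ∈ E (i + 1) := hmul0 _ _ hneg _ _
      have hEw : Hi * (w - (ρ y - 1)) * H ∈ E (i + 1) := hmul0 _ _ hyw _ _
      rw [show (ρ y - 1) + Hi * (ρ y⁻¹ - 1) * H + ν =
        (Hi * ((ρ y⁻¹ - 1) + (ρ y - 1)) * H) + (Hi * (w - (ρ y - 1)) * H) - (w - (ρ y - 1)) + c by
          rw [hsplit]; noncomm_ring]
      exact add_mem (sub_mem (add_mem hD hEw) hyw) hcE
    have := add_mem hB (add_mem hA hC)
    convert this using 1
    show ρ (y * (h⁻¹ * y⁻¹ * h) * u) - 1 = _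
    simp only [ν]
    abel

variable {A : Type u} [CommRing A] [HopfAlgebra k A] {C : Type u} [CommRing C] [HopfAlgebra k C]

/-- semisimple points with the same image modulo a unipotent kernel are conjugate -/
theorem exists_conj_of_restrPts [IsAlgClosed k] [Algebra.FiniteType k A] (φ : C →ₐc[k] A)
    (hker : ∀ u : Pt k A, HopfFlat.restrPts φ u = 1 → ∀ (V : Type u) [AddCommGroup V] [Module k V]
      [HopfRep.Comod k A V], Module.Finite k V → IsNilpotent (actHom k A V u - 1))
    {g g' : Pt k A} (hg : IsSS g) (hg' : IsSS g') (heq : HopfFlat.restrPts φ g = HopfFlat.restrPts φ g') :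
    ∃ x : Pt k A, x * g * x⁻¹ = g' := by
  obtain ⟨W, hW, hWf, hinj, -⟩ := exists_generating k A
  letI := ComodSub.Comod.restr (HopfRep.Comod.regular k A) W hW
  refine exists_conj_of_filtration (actHom k A W) hinj (HopfFlat.restrPts φ).ker inferInstance
    (fun u hu => hker u hu W hWf) (fun y hy t => ?_) (fun x => (hg.conj x) W hWf) (hg' W hWf) ?_
  · obtain ⟨P, hP⟩ := exists_path y (hker y hy)
    refine ⟨toConv ((Polynomial.aeval t).comp P), ?_, fun M hM => actHom_path hP hM t⟩
    show HopfFlat.restrPts φ _ = 1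
    refine ofConv_injective (AlgHom.ext fun c => ?_)
    show Polynomial.aeval t (P (φ c)) = _
    have : P (φ c) = Polynomial.C (CoalgebraStruct.counit (R := k) c) := eq_of_eval_natCast fun n => by
      rw [hP, eval_C]
      have h2 : HopfFlat.restrPts φ (y ^ n) = 1 := by
        rw [map_pow, show HopfFlat.restrPts φ y = 1 from hy, one_pow]
      have h3 := congr(($h2).ofConv c)
      rw [AlgHom.convOne_apply] at h3
      exact h3
    rw [this, aeval_C, AlgHom.convOne_apply]
  · show HopfFlat.restrPts φ _ = 1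
    rw [map_mul, map_inv, heq, inv_mul_cancel]

end Groth.Agent.Char34
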