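import Groth.Agent.Char34.ClosedClass
import Groth.Agent.Char34.RedQuotExists
import Groth.Agent.Char34.UnipLift

/-!
Semisimple classes of any affine group in characteristic zero are separated by characters.
-/

set_option autoImplicit false

universe u

open TensorProduct WithConv Groth.Agent.Comod33 Groth.Agent.Comod33.Conn Polynomial

noncomputable section

namespace Groth.Agent.Char34

variable {k : Type u} [Field k] [IsAlgClosed k] [CharZero k] {A : Type u} [CommRing A] [HopfAlgebra k A]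
  [Algebra.FiniteType k A]

/-- semisimple points with the same characters are conjugate -/
theorem exists_conj_of_isSS {g g' : Pt k A} (hg : IsSS g) (hg' : IsSS g')
    (htr : ∀ (d : ℕ) (c : HopfRep.Comod k A (Fin d → k)),
      LinearMap.trace k (Fin d → k) (@HopfRep.Comod.act k A _ _ _ (Fin d → k) _ _ c g.ofConv) =
        LinearMap.trace k (Fin d → k) (@HopfRep.Comod.act k A _ _ _ (Fin d → k) _ _ c g'.ofConv)) :
    ∃ x : Pt k A, x * g * x⁻¹ = g' := by
  obtain ⟨C, _, _, _, φ, hφ, hC, hker⟩ := exists_red_quot (k := k) (A := A)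
  have hact : ∀ (V : Type u) [AddCommGroup V] [Module k V] (c : HopfRep.Comod k C V) (y : Pt k A),
      @actHom k _ C _ _ V _ _ c (HopfFlat.restrPts φ y) =
        @actHom k _ A _ _ V _ _ (Comod33.push (φ : C →ₗc[k] A) c) y :=
    fun V _ _ c y => LinearMap.ext fun v => (dact_push (φ : C →ₗc[k] A) c y.ofConv.toLinearMap v).symm
  have hss : ∀ y : Pt k A, IsSS y → IsSS (HopfFlat.restrPts φ y) := fun y hy V _ _ c hV => by
    letI cA : HopfRep.Comod k A V := Comod33.push (φ : C →ₗc[k] A) c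
    rw [hact V c y]
    exact hy V hV
  obtain ⟨x₀, hx₀⟩ := exists_conj_of_trace hC (g := HopfFlat.restrPts φ g) (h := HopfFlat.restrPts φ g')
    (isClosedOrbit_of_isSS (hss g hg)) (isClosedOrbit_of_isSS (hss g' hg')) fun d c => by
      have h := htr d (Comod33.push (φ : C →ₗc[k] A) c)
      show LinearMap.trace k _ (@actHom k _ C _ _ (Fin d → k) _ _ c (HopfFlat.restrPts φ g)) =
        LinearMap.trace k _ (@actHom k _ C _ _ (Fin d → k) _ _ c (HopfFlat.restrPts φ g'))
      rw [hact, hact]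
      exact h
  obtain ⟨x, hx⟩ := HopfFlat.exists_point_lift_fg φ hφ x₀.ofConv
  have hx' : HopfFlat.restrPts φ (toConv x) = x₀ := ofConv_injective hx
  obtain ⟨y, hy⟩ := exists_conj_of_restrPts φ hker (hg.conj (toConv x)) hg'
    (by rw [map_mul, map_mul, map_inv, hx', hx₀])
  refine ⟨y * toConv x, ?_⟩
  rw [← hy, mul_inv_rev]
  group

/-- finitely many representations single out a semisimple class -/
theorem exists_separating {g : Pt k A} (hg : IsSS g) :
    ∃ (m : ℕ) (d : Fin m → ℕ) (c : (i : Fin m) → HopfRep.Comod k A (Fin (d i) → k)), ∀ g' : Pt k A,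
      (∀ i, ∃ P : (Fin (d i) → k) ≃ₗ[k] (Fin (d i) → k),
        P.toLinearMap ∘ₗ @HopfRep.Comod.act k A _ _ _ (Fin (d i) → k) _ _ (c i) g'.ofConv =
          (@HopfRep.Comod.act k A _ _ _ (Fin (d i) → k) _ _ (c i) g.ofConv) ∘ₗ P.toLinearMap) →
      ∃ x : Pt k A, x * g' * x⁻¹ = g := by
  classical
  haveI : IsReduced A := Aug.isReduced_of_charZero (k := k)
  obtain ⟨W, hW, hWf, hinj, hgen⟩ := exists_generating k A
  letI := ComodSub.Comod.restr (HopfRep.Comod.regular k A) W hW
  let b := Module.finBasis k W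
  let d₀ := Module.finrank k W
  let c₀ : HopfRep.Comod k A (Fin d₀ → k) := Mat.comod (Mat.isRep_mc (A := A) b)
  let H₀ := @actHom k _ A _ _ (Fin d₀ → k) _ _ c₀
  have he : ∀ (z : Pt k A), b.equivFun.toLinearMap ∘ₗ actHom k A W z = H₀ z ∘ₗ b.equivFun.toLinearMap := by
    intro z
    refine b.ext fun j => ?_
    have hej : ∀ i, b.equivFun (b i) = Pi.single i 1 := fun i => by
      ext l
      simp [Module.Basis.equivFun_apply, Finsupp.single_apply, Pi.single_apply, eq_comm]
    simp only [LinearMap.comp_apply, LinearEquiv.coe_coe]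
    rw [actHom_basis, map_sum, hej, actHom_comod]
    simp only [map_smul, hej]
    rfl
  let p := minpoly k (actHom k A W g)
  have hp : p.Separable := PerfectField.separable_iff_squarefree.2 (hg W hWf).minpoly_squarefree
  obtain ⟨N, h, hSS, hcov⟩ := exists_finite_classes (V := W) hinj
    (fun δ hδ h => hgen δ hδ.map_one hδ h) hp
  have hsep : ∀ i : Fin N, ∃ (d : ℕ) (c : HopfRep.Comod k A (Fin d → k)), (¬ ∃ x : Pt k A, x * h i * x⁻¹ = g) →
      LinearMap.trace k (Fin d → k) (@HopfRep.Comod.act k A _ _ _ (Fin d → k) _ _ c (h i).ofConv) ≠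
        LinearMap.trace k (Fin d → k) (@HopfRep.Comod.act k A _ _ _ (Fin d → k) _ _ c g.ofConv) := by
    intro i
    by_cases hc : ∃ x : Pt k A, x * h i * x⁻¹ = g
    · exact ⟨d₀, c₀, fun hn => absurd hc hn⟩
    · by_contra hall
      push Not at hall
      exact hc (exists_conj_of_isSS (hSS i) hg fun d c => (hall d c).2)
  choose dd cc hdc using hsep
  let R : Fin (N + 1) → (Σ d : ℕ, HopfRep.Comod k A (Fin d → k)) := Fin.cons ⟨d₀, c₀⟩ fun i => ⟨dd i, cc i⟩
  refine ⟨N + 1, fun i => (R i).1, fun i => (R i).2, fun g' hg' => ?_⟩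
  have hconj : ∀ i, ∃ P : (Fin (R i).1 → k) ≃ₗ[k] (Fin (R i).1 → k),
      @HopfRep.Comod.act k A _ _ _ (Fin (R i).1 → k) _ _ (R i).2 g.ofConv =
        P.conjAlgEquiv k (@HopfRep.Comod.act k A _ _ _ (Fin (R i).1 → k) _ _ (R i).2 g'.ofConv) := by
    intro i
    obtain ⟨P, hP⟩ := hg' i
    refine ⟨P, LinearMap.ext fun v => ?_⟩
    have h1 := LinearMap.congr_fun hP (P.symm v)
    simp only [LinearMap.comp_apply, LinearEquiv.coe_coe, LinearEquiv.apply_symm_apply] at h1
    exact h1.symm
  have h0 : Polynomial.aeval (actHom k A W g') p = 0 := by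
    obtain ⟨P, hP⟩ := hconj 0
    have e1 : ∀ z : Pt k A, H₀ z = b.equivFun.conjAlgEquiv k (actHom k A W z) := fun z => LinearMap.ext fun v => by
      have := LinearMap.congr_fun (he z) (b.equivFun.symm v)
      simp only [LinearMap.comp_apply, LinearEquiv.coe_coe, LinearEquiv.apply_symm_apply] at this
      exact this.symm
    have hP' : H₀ g = (show (Fin d₀ → k) ≃ₗ[k] (Fin d₀ → k) from P).conjAlgEquiv k (H₀ g') := hP
    rw [e1, e1] at hP'
    have h2 : Polynomial.aeval (b.equivFun.conjAlgEquiv k (actHom k A W g)) p = 0 := by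
      rw [← AlgEquiv.coe_toAlgHom, aeval_algHom_apply, show aeval (actHom k A W g) p = 0 from minpoly.aeval k (actHom k A W g), map_zero]
    rw [hP', ← AlgEquiv.coe_toAlgHom, aeval_algHom_apply, ← AlgEquiv.coe_toAlgHom, aeval_algHom_apply] at h2
    simpa using h2
  obtain ⟨j, x, hx⟩ := hcov g' h0
  obtain ⟨y, hy⟩ : ∃ y : Pt k A, y * h j * y⁻¹ = g := by
    by_contra hn
    refine hdc j hn ?_
    letI := cc j
    obtain ⟨P, hP⟩ := hconj j.succ
    have hP' : @HopfRep.Comod.act k A _ _ _ (Fin (dd j) → k) _ _ (cc j) g.ofConv =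
        (show (Fin (dd j) → k) ≃ₗ[k] (Fin (dd j) → k) from P).conjAlgEquiv k
          (@HopfRep.Comod.act k A _ _ _ (Fin (dd j) → k) _ _ (cc j) g'.ofConv) := hP
    rw [hP']
    refine Eq.trans ?_ (LinearMap.trace_conj' _ _).symm
    rw [← hx]
    exact (trace_conj x (h j)).symm
  refine ⟨y * x⁻¹, ?_⟩
  rw [← hx, ← hy]
  group

end Groth.Agent.Char34
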