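import Groth.Agent.Char34.SepPoly
import Groth.Agent.Char34.Semisimple
import Groth.Agent.Char34.Adjoint
import Mathlib.LinearAlgebra.Matrix.ToLin

/-!
The tangent space of the set of points killed by a separable polynomial in a representation.
-/

set_option autoImplicit false

universe u v

open TensorProduct WithConv Groth.Agent.Comod33 Groth.Agent.Comod33.Conn Polynomial

noncomputable section

namespace Groth.Agent.Char34

variable {k : Type u} [Field k] {A : Type u} [CommRing A] [HopfAlgebra k A]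

/-- derivations at a point -/
def IsDerAt (h : Pt k A) (v : A →ₗ[k] k) : Prop :=
  ∀ a b, v (a * b) = h.ofConv a * v b + v a * h.ofConv b

/-- a point as a functional -/
def lin (h : Pt k A) : WithConv (A →ₗ[k] k) := toConv h.ofConv.toLinearMap

theorem lin_mul (g h : Pt k A) : lin (g * h) = lin g * lin h := AlgHom.toLinearMap_convMul g h

theorem lin_one : lin (1 : Pt k A) = 1 := rfl

theorem isDerAt_mul_left {h : Pt k A} (g : Pt k A) {v : WithConv (A →ₗ[k] k)} (hv : IsDerAt h v.ofConv) :
    IsDerAt (g * h) (lin g * v).ofConv := by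
  intro a b
  simp only [LinearMap.convMul_def, ofConv_toConv, LinearMap.comp_apply, AlgHom.convMul_def, AlgHom.comp_apply,
    Bialgebra.comulAlgHom_apply, Bialgebra.comul_mul]
  generalize CoalgebraStruct.comul (R := k) a = z
  generalize CoalgebraStruct.comul (R := k) b = z'
  induction z with
  | zero => simp
  | add p q hp hq => simp only [add_mul, map_add, hp, hq]; ring
  | tmul p q =>
    induction z' with
    | zero => simp
    | add r s hr hs => simp only [mul_add, map_add, hr, hs]; ring
    | tmul r s =>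
      simp only [Algebra.TensorProduct.tmul_mul_tmul, TensorProduct.map_tmul, LinearMap.mul'_apply,
        Algebra.TensorProduct.map_tmul, Algebra.TensorProduct.lmul'_apply_tmul, lin, ofConv_toConv,
        AlgHom.toLinearMap_apply, map_mul, hv q s]
      ring

theorem isDerAt_mul_right {h : Pt k A} (g : Pt k A) {v : WithConv (A →ₗ[k] k)} (hv : IsDerAt h v.ofConv) :
    IsDerAt (h * g) (v * lin g).ofConv := by
  intro a b
  simp only [LinearMap.convMul_def, ofConv_toConv, LinearMap.comp_apply, AlgHom.convMul_def, AlgHom.comp_apply,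
    Bialgebra.comulAlgHom_apply, Bialgebra.comul_mul]
  generalize CoalgebraStruct.comul (R := k) a = z
  generalize CoalgebraStruct.comul (R := k) b = z'
  induction z with
  | zero => simp
  | add p q hp hq => simp only [add_mul, map_add, hp, hq]; ring
  | tmul p q =>
    induction z' with
    | zero => simp
    | add r s hr hs => simp only [mul_add, map_add, hr, hs]; ring
    | tmul r s =>
      simp only [Algebra.TensorProduct.tmul_mul_tmul, TensorProduct.map_tmul, LinearMap.mul'_apply,
        Algebra.TensorProduct.map_tmul, Algebra.TensorProduct.lmul'_apply_tmul, lin, ofConv_toConv,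
        AlgHom.toLinearMap_apply, map_mul, hv p r]
      ring

theorem IsDerAt.map_one {h : Pt k A} {v : A →ₗ[k] k} (hv : IsDerAt h v) : v 1 = 0 := by
  have := hv 1 1
  simp only [mul_one, _root_.map_one, one_mul] at this
  exact left_eq_add.1 this

theorem der_comp_mul (δ : A →ₗ[k] k) (hδ : IsDerAt (1 : Pt k A) δ) (p q : GA k A) :
    toConv (δ ∘ₗ (p * q).ofConv.toLinearMap) =
      lin (Conn.push 1 p) * toConv (δ ∘ₗ q.ofConv.toLinearMap) +
        toConv (δ ∘ₗ p.ofConv.toLinearMap) * lin (Conn.push 1 q) := by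
  refine ofConv_injective (LinearMap.ext fun a => ?_)
  simp only [LinearMap.convMul_def, ofConv_toConv, WithConv.ofConv_add, LinearMap.add_apply, LinearMap.comp_apply,
    AlgHom.convMul_def, AlgHom.comp_apply, AlgHom.toLinearMap_apply, Bialgebra.comulAlgHom_apply]
  generalize CoalgebraStruct.comul (R := k) a = z
  induction z with
  | zero => simp
  | add x y hx hy => simp only [map_add, hx, hy]; ring
  | tmul x y =>
    simp only [Algebra.TensorProduct.map_tmul, Algebra.TensorProduct.lmul'_apply_tmul, TensorProduct.map_tmul,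
      LinearMap.mul'_apply, LinearMap.comp_apply, lin, ofConv_toConv, AlgHom.toLinearMap_apply, hδ _ _,
      Conn.push_apply]

theorem der_const (δ : A →ₗ[k] k) (hδ : IsDerAt (1 : Pt k A) δ) (y : Pt k A) :
    toConv (δ ∘ₗ (const y).ofConv.toLinearMap) = 0 :=
  ofConv_injective (LinearMap.ext fun a => by
    show δ (algebraMap k A (y.ofConv a)) = 0
    rw [Algebra.algebraMap_eq_smul_one, map_smul, hδ.map_one, smul_zero])

theorem neg_convMul (x y : WithConv (A →ₗ[k] k)) : -x * y = -(x * y) :=
  eq_neg_of_add_eq_zero_left (by rw [← add_mul, neg_add_cancel, zero_mul])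

theorem convMul_neg (x y : WithConv (A →ₗ[k] k)) : x * -y = -(x * y) :=
  eq_neg_of_add_eq_zero_left (by rw [← mul_add, neg_add_cancel, mul_zero])

/-- the differential of the orbit map of conjugation -/
theorem der_comp_orb (δ : A →ₗ[k] k) (hδ : IsDerAt (1 : Pt k A) δ) (h : Pt k A) :
    toConv (δ ∘ₗ (orb h).toLinearMap) = lin h * toConv δ - toConv δ * lin h := by
  have hgen : toConv (δ ∘ₗ (Conn.gen k A).ofConv.toLinearMap) = toConv δ := rfl
  have hginv : toConv (δ ∘ₗ (Conn.gen k A)⁻¹.ofConv.toLinearMap) = - toConv δ := by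
    have e := der_comp_mul δ hδ (Conn.gen k A)⁻¹ (Conn.gen k A)
    rw [inv_mul_cancel, show (1 : GA k A) = const (1 : Pt k A) from rfl, der_const δ hδ, map_inv, Conn.push_gen,
      inv_one, lin_one, one_mul, mul_one, hgen, eq_comm, add_eq_zero_iff_neg_eq] at e
    exact e.symm
  rw [← ofConv_toConv (orb h), orbitHom_adPt, der_comp_mul δ hδ, der_comp_mul δ hδ, der_const δ hδ, hgen, hginv,
    map_mul (Conn.push (1 : Pt k A)), map_inv, Conn.push_gen, inv_one, one_mul, Conn.push_const, mul_zero, zero_add,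
    lin_one, mul_one, neg_convMul, sub_eq_add_neg]

variable {V : Type u} [AddCommGroup V] [Module k V] [HopfRep.Comod k A V]
  {ι : Type} [Fintype ι] [DecidableEq ι] (b : Module.Basis ι k V)

/-- the operator attached to the values of a functional on a matrix of functions -/
def evEnd (φ : A →ₗ[k] k) : Matrix ι ι A →ₗ[k] Module.End k V :=
  (Matrix.toLinAlgEquiv b).toLinearMap ∘ₗ φ.mapMatrix

theorem evEnd_mc (φ : A →ₗ[k] k) : evEnd b φ (Matrix.of (Mat.mc (A := A) b)) = dact φ := by
  refine b.ext fun j => b.ext_elem fun i => ?_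
  show b.repr (Matrix.toLinAlgEquiv b (φ.mapMatrix (Matrix.of (Mat.mc (A := A) b))) (b j)) i = _
  rw [Matrix.toLinAlgEquiv_self]
  simp only [map_sum, map_smul, Module.Basis.repr_self, Finsupp.finsetSum_apply, Finsupp.smul_apply,
    Finsupp.single_apply]
  simp [Mat.mc, cf_apply, apply_lc, dact_apply]

/-- evaluation at a point -/
def evAlg (h : Pt k A) : Matrix ι ι A →ₐ[k] Module.End k V :=
  (Matrix.toLinAlgEquiv b).toAlgHom.comp h.ofConv.mapMatrix

theorem evAlg_mc (h : Pt k A) : evAlg b h (Matrix.of (Mat.mc (A := A) b)) = actHom k A V h :=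
  evEnd_mc b h.ofConv.toLinearMap

theorem evEnd_mul {h : Pt k A} {v : A →ₗ[k] k} (hv : IsDerAt h v) (x y : Matrix ι ι A) :
    evEnd b v (x * y) = evEnd b v x * evAlg b h y + evAlg b h x * evEnd b v y := by
  show Matrix.toLinAlgEquiv b (v.mapMatrix (x * y)) = Matrix.toLinAlgEquiv b (v.mapMatrix x) *
    Matrix.toLinAlgEquiv b (h.ofConv.mapMatrix y) + Matrix.toLinAlgEquiv b (h.ofConv.mapMatrix x) *
    Matrix.toLinAlgEquiv b (v.mapMatrix y)
  rw [← map_mul, ← map_mul, ← map_add]
  congr 1
  ext i j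
  simp only [LinearMap.mapMatrix_apply, AlgHom.mapMatrix_apply, Matrix.map_apply, Matrix.add_apply, Matrix.mul_apply,
    map_sum, hv _ _, Finset.sum_add_distrib]
  rw [add_comm]

/-- the equations of the points killed by a polynomial -/
def eqn (m : k[X]) : Matrix ι ι A := Polynomial.aeval (Matrix.of (Mat.mc (A := A) b)) m

theorem aeval_actHom_eq_zero_iff (m : k[X]) (h : Pt k A) :
    Polynomial.aeval (actHom k A V h) m = 0 ↔ ∀ i j, h.ofConv (eqn (A := A) b m i j) = 0 := by
  rw [← evAlg_mc b h, aeval_algHom_apply]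
  show Matrix.toLinAlgEquiv b (h.ofConv.mapMatrix (eqn b m)) = 0 ↔ _
  rw [map_eq_zero_iff _ (Matrix.toLinAlgEquiv b).injective]
  exact ⟨fun e i j => congr($e i j), fun e => Matrix.ext e⟩

theorem IsDerAt.sub {h : Pt k A} {v w : A →ₗ[k] k} (hv : IsDerAt h v) (hw : IsDerAt h w) : IsDerAt h (v - w) :=
  fun a b => by simp only [LinearMap.sub_apply, hv a b, hw a b]; ring

theorem lin_inv_mul (h : Pt k A) (x : WithConv (A →ₗ[k] k)) : lin h * (lin h⁻¹ * x) = x := by
  rw [← mul_assoc, ← lin_mul, mul_inv_cancel, lin_one, one_mul]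

theorem dact_convMul (f g : WithConv (A →ₗ[k] k)) :
    (dact (f * g).ofConv : Module.End k V) = dact f.ofConv * dact g.ofConv :=
  LinearMap.ext fun v => (dact_dact f.ofConv g.ofConv v).symm

/-- tangent vectors to the points killed by a separable polynomial are tangent to the class -/
theorem exists_der_comp_orb [PerfectField k]
    (hgen : ∀ δ : A →ₗ[k] k, IsDerAt (1 : Pt k A) δ → (∀ (φ : V →ₗ[k] k) (w : V), δ (cf (A := A) φ w) = 0) → δ = 0)
    {h : Pt k A} (hss : Module.End.IsSemisimple (actHom k A V h)) {m : k[X]} (hm : m.Separable)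
    (h0 : Polynomial.aeval (actHom k A V h) m = 0) {v : A →ₗ[k] k} (hv : IsDerAt h v)
    (hvY : ∀ i j, v (eqn (A := A) b m i j) = 0) :
    ∃ δ : A →ₗ[k] k, IsDerAt (1 : Pt k A) δ ∧ ∀ a, v a = δ (orb h a) := by
  haveI : Module.Finite k V := Module.Finite.of_basis b
  let H := actHom k A V h
  let Hi := actHom k A V h⁻¹
  have hHi : H * Hi = 1 := by rw [← map_mul, mul_inv_cancel, map_one]
  let T : Submodule k (A →ₗ[k] k) :=
    { carrier := {δ | IsDerAt (1 : Pt k A) δ}
      add_mem' := fun {p q} hp hq x y => by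
        simp only [LinearMap.add_apply, hp x y, hq x y]; ring
      zero_mem' := fun x y => by simp
      smul_mem' := fun c p hp x y => by
        simp only [LinearMap.smul_apply, hp x y, smul_eq_mul]; ring }
  let D : (A →ₗ[k] k) →ₗ[k] Module.End k V :=
    { toFun := fun f => dact f, map_add' := dact_add, map_smul' := dact_smul }
  have hinj : ∀ δ ∈ T, D δ = 0 → δ = 0 := fun δ hδ h0 => hgen δ hδ fun φ w => by
    rw [cf_apply, apply_lc, ← dact_apply, show dact δ = (0 : V →ₗ[k] V) from h0, LinearMap.zero_apply, map_zero]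
  have hstab : ∀ δ ∈ T, IsDerAt (1 : Pt k A) (lin h⁻¹ * toConv δ * lin h).ofConv := fun δ hδ => by
    have h1 := isDerAt_mul_left h⁻¹ (v := toConv δ) (hδ : IsDerAt (1 : Pt k A) δ)
    rw [mul_one] at h1
    have h2 := isDerAt_mul_right h h1
    rwa [inv_mul_cancel] at h2
  have hDc : ∀ δ : A →ₗ[k] k, D (lin h⁻¹ * toConv δ * lin h).ofConv = Hi * D δ * H := fun δ => by
    show dact _ = _
    rw [dact_convMul, dact_convMul]; rfl
  let v' := lin h⁻¹ * toConv v
  have hv' : v'.ofConv ∈ T := by
    have h1 := isDerAt_mul_left h⁻¹ (v := toConv v) hv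
    rwa [inv_mul_cancel] at h1
  have hDv : (dact v : Module.End k V) = H * D v'.ofConv := by
    show _ = H * dact v'.ofConv
    rw [show H = dact (lin h).ofConv from rfl, ← dact_convMul, lin_inv_mul]
  obtain ⟨_, ⟨ω, hω, rfl⟩, _, ⟨γ, hγ, rfl⟩, hcomm, hsplit⟩ := exists_conj_split (H := H) (Hi := Hi) hss hHi (T.map D)
    (by rintro _ ⟨δ, hδ, rfl⟩; exact ⟨_, hstab δ hδ, hDc δ⟩) (Submodule.mem_map_of_mem hv' : D v'.ofConv ∈ T.map D)
  have hder : dpol H (dact v) m = 0 := by
    have h2 := map_aeval_eq_dpol (evAlg b h) (evEnd b v) (evEnd_mul b hv) (Matrix.of (Mat.mc (A := A) b)) m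
    rw [evAlg_mc, evEnd_mc] at h2
    rw [← h2]
    show Matrix.toLinAlgEquiv b (v.mapMatrix (eqn b m)) = 0
    rw [show v.mapMatrix (eqn b m) = 0 from Matrix.ext hvY, map_zero]
  have hγ0 : D γ = 0 := by
    have e : H * D v'.ofConv = (D ω * H - H * D ω) + H * D γ := by
      rw [hsplit, mul_add, mul_sub, ← mul_assoc, ← mul_assoc, hHi, one_mul]
    rw [hDv, e, dpol_add, dpol_comm, h0, mul_zero, zero_mul, sub_zero, zero_add] at hder
    have hc' : Commute (H * D γ) H := ((Commute.refl H).mul_left hcomm)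
    obtain ⟨p, hp⟩ := dpol_ne_zero_of_separable hc' hm h0
    rw [hder, mul_zero] at hp
    calc D γ = Hi * H * D γ := by rw [mul_eq_one_comm.1 hHi, one_mul]
      _ = 0 := by rw [mul_assoc, ← hp, mul_zero]
  have hv'eq : v' = lin h⁻¹ * toConv ω * lin h - toConv ω := by
    refine ofConv_injective (sub_eq_zero.1 (hinj _ (T.sub_mem hv' (T.sub_mem (hstab ω hω) hω)) ?_))
    show D (v'.ofConv - ((lin h⁻¹ * toConv ω * lin h).ofConv - ω)) = 0
    rw [map_sub, map_sub, hDc, hsplit, hγ0, add_zero, sub_self]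
  refine ⟨-ω, T.neg_mem hω, fun a => ?_⟩
  have e : toConv v = toConv ((-ω) ∘ₗ (orb h).toLinearMap) := by
    rw [der_comp_orb _ (T.neg_mem hω), show toConv (-ω) = - toConv ω from rfl, neg_convMul, convMul_neg,
      ← lin_inv_mul h (toConv v), show lin h⁻¹ * toConv v = v' from rfl, hv'eq, mul_sub, mul_assoc (lin h⁻¹),
      lin_inv_mul]
    abel
  exact DFunLike.congr_fun (congrArg WithConv.ofConv e) a

end Groth.Agent.Char34
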