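import Groth.Agent.Char34.Semisimple
import Groth.Agent.Comod33.Finite
import Mathlib.RingTheory.Polynomial.Pochhammer
import Mathlib.Data.Nat.Choose.Sum

/-!
Polynomial paths through the powers of a unipotent point.
-/

set_option autoImplicit false

universe u

open TensorProduct WithConv Groth.Agent.Comod33 Groth.Agent.Comod33.Conn Polynomial

noncomputable section

namespace Groth.Agent.Char34

variable {k : Type u} [Field k] [CharZero k]

/-- the binomial coefficient as a polynomial -/
def binom (k : Type u) [Field k] (l : ℕ) : k[X] := Polynomial.C ((l.factorial : k))⁻¹ * descPochhammer k l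

theorem eval_binom (l n : ℕ) : (binom k l).eval (n : k) = (n.choose l : k) := by
  rw [binom, eval_mul, eval_C, Nat.cast_choose_eq_descPochhammer_div, div_eq_mul_inv, mul_comm]

omit [CharZero k] in
theorem binom_zero : binom k 0 = 1 := by simp [binom]

omit [CharZero k] in
theorem binom_one : binom k 1 = X := by simp [binom]

omit [CharZero k] in
/-- powers of a unipotent element -/
theorem pow_eq_sum {R : Type*} [Ring R] {x : R} {N : ℕ} (hN : (x - 1) ^ N = 0) (n : ℕ) :
    x ^ n = ∑ l ∈ Finset.range N, (n.choose l) • (x - 1) ^ l := by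
  conv_lhs => rw [← sub_add_cancel x 1, ((Commute.one_right (x - 1))).add_pow n]
  simp only [one_pow, mul_one, ← nsmul_eq_mul']
  have hz : ∀ l, N ≤ l → (n.choose l) • (x - 1) ^ l = 0 := fun l hl => by
    rw [← Nat.add_sub_cancel' hl, pow_add, hN, zero_mul, smul_zero]
  have hz' : ∀ l, n < l → (n.choose l) • (x - 1) ^ l = 0 := fun l hl => by
    rw [Nat.choose_eq_zero_of_lt hl, zero_smul]
  rcases le_total (n + 1) N with h | h
  · exact Finset.sum_subset (Finset.range_subset_range.2 h) fun l _ hl =>
      hz' l (by rw [Finset.mem_range] at hl; omega)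
  · exact (Finset.sum_subset (Finset.range_subset_range.2 h) fun l _ hl =>
      hz l (by rw [Finset.mem_range] at hl; omega)).symm

theorem eq_of_eval_natCast {p q : k[X]} (h : ∀ n : ℕ, p.eval (n : k) = q.eval (n : k)) : p = q :=
  Polynomial.eq_of_infinite_eval_eq p q <| Set.infinite_of_injective_forall_mem Nat.cast_injective h

variable {A : Type u} [CommRing A] [HopfAlgebra k A]

theorem actHom_pow_apply {V : Type u} [AddCommGroup V] [Module k V] [HopfRep.Comod k A V] (u : Pt k A)
    {N : ℕ} (hN : (actHom k A V u - 1) ^ N = 0) (φ : V →ₗ[k] k) (v : V) (n : ℕ) :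
    (u ^ n).ofConv (cf (A := A) φ v) =
      (∑ l ∈ Finset.range N, Polynomial.C (φ (((actHom k A V u - 1) ^ l) v)) * binom k l).eval (n : k) := by
  rw [apply_cf, map_pow, pow_eq_sum hN, eval_finsetSum, LinearMap.sum_apply, map_sum]
  refine Finset.sum_congr rfl fun l _ => ?_
  rw [eval_mul, eval_C, eval_binom, ← Nat.cast_smul_eq_nsmul k, LinearMap.smul_apply, map_smul, smul_eq_mul, mul_comm]

/-- the powers of a unipotent point extend to a polynomial family of points -/
theorem exists_path (u : Pt k A) (hu : ∀ (V : Type u) [AddCommGroup V] [Module k V] [HopfRep.Comod k A V],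
      Module.Finite k V → IsNilpotent (actHom k A V u - 1)) :
    ∃ P : A →ₐ[k] k[X], ∀ (f : A) (n : ℕ), (P f).eval (n : k) = (u ^ n).ofConv f := by
  let Φ : k[X] →ₐ[k] (ℕ → k) := Pi.algHom k _ fun n : ℕ => Polynomial.aeval (n : k)
  have hΦ : Function.Injective Φ := fun p q h => eq_of_eval_natCast fun n => by
    have := congrFun h n
    simpa [Φ, Polynomial.coe_aeval_eq_eval] using this
  let Ψ : A →ₐ[k] (ℕ → k) := Pi.algHom k _ fun n : ℕ => (u ^ n).ofConv
  have hmem : ∀ f, Ψ f ∈ Φ.range := fun f => by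
    letI := ComodSub.Comod.restr (HopfRep.Comod.regular k A) (Comod33.gen (k := k) (A := A) f) (isSubcomod_gen f)
    obtain ⟨N, hN⟩ := hu (Comod33.gen (k := k) (A := A) f) (finite_gen f)
    let W := Comod33.gen (k := k) (A := A) f
    let ε : W →ₗ[k] k := (CoalgebraStruct.counit (R := k) (A := A)).comp W.subtype
    have hι : Hoch.IsComodHom A W.subtype :=
      ComodSub.isComodHom_subtype (HopfRep.Comod.regular k A) W (isSubcomod_gen f)
    have hcf : ∀ g : Pt k A, g.ofConv (cf (A := A) ε ⟨f, mem_gen f⟩) = g.ofConv f := fun g => by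
      rw [apply_cf]
      show CoalgebraStruct.counit (R := k) ((actHom k A W g ⟨f, mem_gen f⟩ : W) : A) = _
      rw [← counit_act g.ofConv f]
      exact congrArg _ (IsComodHom.dact hι g.ofConv.toLinearMap ⟨f, mem_gen f⟩)
    exact ⟨∑ l ∈ Finset.range N, Polynomial.C (ε (((actHom k A W u - 1) ^ l) ⟨f, mem_gen f⟩)) * binom k l,
      funext fun n => by
        show (Polynomial.aeval (n : k)) _ = (u ^ n).ofConv f
        rw [Polynomial.coe_aeval_eq_eval, ← actHom_pow_apply u hN, hcf]⟩
  let P := (AlgEquiv.ofInjective Φ hΦ).symm.toAlgHom.comp (Ψ.codRestrict Φ.range hmem)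
  refine ⟨P, fun f n => ?_⟩
  have h := congrArg Subtype.val ((AlgEquiv.ofInjective Φ hΦ).apply_symm_apply (Ψ.codRestrict Φ.range hmem f))
  have h2 : Φ (P f) n = Ψ f n := congrFun h n
  simpa [Φ, Ψ, Polynomial.coe_aeval_eq_eval] using h2

/-- the operators along the path -/
theorem actHom_path {u : Pt k A} {P : A →ₐ[k] k[X]} (hP : ∀ (f : A) (n : ℕ), (P f).eval (n : k) = (u ^ n).ofConv f)
    {V : Type u} [AddCommGroup V] [Module k V] [HopfRep.Comod k A V] {N : ℕ} (hN : (actHom k A V u - 1) ^ N = 0) (t : k) :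
    actHom k A V (toConv ((Polynomial.aeval t).comp P)) =
      ∑ l ∈ Finset.range N, (binom k l).eval t • (actHom k A V u - 1) ^ l := by
  refine LinearMap.ext fun v => sub_eq_zero.1 ((Module.forall_dual_apply_eq_zero_iff k _).1 fun φ => ?_)
  rw [map_sub, sub_eq_zero, ← apply_cf]
  have e : P (cf (A := A) φ v) = ∑ l ∈ Finset.range N, Polynomial.C (φ (((actHom k A V u - 1) ^ l) v)) * binom k l :=
    eq_of_eval_natCast fun n => by rw [hP, actHom_pow_apply u hN]
  show Polynomial.aeval t (P (cf (A := A) φ v)) = _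
  rw [e, map_sum, LinearMap.sum_apply, map_sum]
  refine Finset.sum_congr rfl fun l _ => ?_
  rw [map_mul, aeval_C, LinearMap.smul_apply, map_smul, smul_eq_mul, Polynomial.coe_aeval_eq_eval, mul_comm]
  rfl

end Groth.Agent.Char34
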